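import Mathlib
import Cfsg.Prelude.Def_Sporadic_a

/-!
Counting in Steiner systems: the number of blocks through a set, the moment equations, and the
intersection numbers of the Witt designs.
-/

set_option autoImplicit false
set_option linter.unusedSectionVars false

namespace H17

open Finset Cfsg

variable {α : Type*} [Fintype α] [DecidableEq α]

open Classical in
/-- The blocks containing `s`, as a finset. -/
noncomputable def thru (B : Set (Finset α)) (s : Finset α) : Finset (Finset α) :=
  Finset.univ.filter fun c => c ∈ B ∧ s ⊆ c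

theorem mem_thru {B : Set (Finset α)} {s c : Finset α} : c ∈ thru B s ↔ c ∈ B ∧ s ⊆ c := by
  simp [thru]

theorem mem_thru_empty {B : Set (Finset α)} {c : Finset α} : c ∈ thru B ∅ ↔ c ∈ B := by
  simp [mem_thru]

theorem ncard_eq_thru (B : Set (Finset α)) : B.ncard = (thru B ∅).card := by
  rw [← Set.ncard_coe_finset]; congr 1; ext c; simp [mem_thru]

theorem steiner_eq_of_le {t k : ℕ} {B : Set (Finset α)} (hB : IsSteinerSystem t k B)
    {b c : Finset α} (hb : b ∈ B) (hc : c ∈ B) (h : t ≤ (b ∩ c).card) : b = c := by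
  obtain ⟨s, hs, hsc⟩ := Finset.exists_subset_card_eq h
  exact (hB.2 s hsc).unique ⟨hb, hs.trans inter_subset_left⟩ ⟨hc, hs.trans inter_subset_right⟩

theorem steiner_inter_lt {t k : ℕ} {B : Set (Finset α)} (hB : IsSteinerSystem t k B)
    {b c : Finset α} (hb : b ∈ B) (hc : c ∈ B) (h : b ≠ c) : (b ∩ c).card < t := by
  by_contra h'
  exact h (steiner_eq_of_le hB hb hc (not_lt.mp h'))

theorem steiner_exists {t k : ℕ} {B : Set (Finset α)} (hB : IsSteinerSystem t k B)
    {s : Finset α} (hs : s.card = t) : ∃ b ∈ B, s ⊆ b := (hB.2 s hs).exists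

theorem card_thru_eq_one {t k : ℕ} {B : Set (Finset α)} (hB : IsSteinerSystem t k B)
    {s : Finset α} (hs : s.card = t) : (thru B s).card = 1 := by
  obtain ⟨b, hb, hu⟩ := hB.2 s hs
  rw [card_eq_one]
  refine ⟨b, ?_⟩
  ext c
  simp only [mem_thru, mem_singleton]
  exact ⟨fun h => hu c h, fun h => h ▸ hb⟩

/-- The number of blocks through an `i`-set. -/
theorem card_thru_mul {t k : ℕ} {B : Set (Finset α)} (hB : IsSteinerSystem t k B)
    {s : Finset α} (hs : s.card ≤ t) :
    (thru B s).card * Nat.choose (k - s.card) (t - s.card) =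
      Nat.choose (Fintype.card α - s.card) (t - s.card) := by
  classical
  have h := Finset.card_mul_eq_card_mul (s := thru B s)
    (t := (Finset.univ.powersetCard t).filter (s ⊆ ·)) (fun c T => T ⊆ c)
    (m := Nat.choose (k - s.card) (t - s.card)) (n := 1) ?_ ?_
  · rw [h, mul_one, card_filter_powersetCard_subset _ _ _ (subset_univ s) hs, card_univ]
  · intro c hc
    obtain ⟨hcB, hsc⟩ := mem_thru.mp hc
    rw [← hB.1 c hcB, ← card_filter_powersetCard_subset _ _ _ hsc hs]
    congr 1
    ext T
    simp only [mem_bipartiteAbove, mem_filter, mem_powersetCard, subset_univ, true_and]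
    tauto
  · intro T hT
    simp only [mem_filter, mem_powersetCard, subset_univ, true_and] at hT
    rw [← card_thru_eq_one hB hT.1]
    congr 1
    ext c
    simp only [mem_bipartiteBelow, mem_thru]
    exact ⟨fun h => ⟨h.1.1, h.2⟩, fun h => ⟨⟨h.1, hT.2.trans h.2⟩, h.2⟩⟩

/-- The moment equations: summing `C(|c ∩ X|, j)` over the blocks through `s`. -/
theorem moment {B : Set (Finset α)} {s X : Finset α} (hsX : Disjoint s X) (j lam : ℕ)
    (hlam : ∀ u : Finset α, u.card = s.card + j → (thru B u).card = lam) :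
    ∑ c ∈ thru B s, Nat.choose (c ∩ X).card j = Nat.choose X.card j * lam := by
  classical
  have h := Finset.sum_card_bipartiteAbove_eq_sum_card_bipartiteBelow (s := thru B s)
    (t := X.powersetCard j) (fun c T => T ⊆ c)
  have h1 : ∀ c ∈ thru B s, ((X.powersetCard j).bipartiteAbove (fun c T => T ⊆ c) c).card =
      Nat.choose (c ∩ X).card j := by
    intro c _
    rw [← card_powersetCard]
    congr 1
    ext T
    simp only [mem_bipartiteAbove, mem_powersetCard, subset_inter_iff]
    tauto
  have h2 : ∀ T ∈ X.powersetCard j, ((thru B s).bipartiteBelow (fun c T => T ⊆ c) T).card = lam := by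
    intro T hT
    rw [mem_powersetCard] at hT
    rw [← hlam (s ∪ T) (by rw [card_union_of_disjoint (hsX.mono_right hT.1), hT.2])]
    congr 1
    ext c
    simp only [mem_bipartiteBelow, mem_thru, union_subset_iff]
    tauto
  rw [sum_congr rfl h1, sum_congr rfl h2, sum_const, card_powersetCard, smul_eq_mul] at h
  exact h

/-- Number of members of a finset of blocks meeting `X` in exactly `i` points. -/
noncomputable def nmeet (D : Finset (Finset α)) (X : Finset α) (i : ℕ) : ℕ :=
  (D.filter fun c => (c ∩ X).card = i).card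

theorem sum_nmeet (D : Finset (Finset α)) (X : Finset α) (m : ℕ) (f : ℕ → ℕ)
    (hD : ∀ c ∈ D, (c ∩ X).card < m) :
    ∑ c ∈ D, f (c ∩ X).card = ∑ i ∈ range m, nmeet D X i * f i := by
  rw [← Finset.sum_fiberwise_of_maps_to (s := D) (t := range m) (g := fun c => (c ∩ X).card)
    (fun c hc => mem_range.mpr (hD c hc))]
  refine sum_congr rfl fun i _ => ?_
  rw [nmeet, ← smul_eq_mul, ← sum_const]
  refine sum_congr rfl fun c hc => ?_
  rw [(mem_filter.mp hc).2]

theorem nmeet_eq_zero {D : Finset (Finset α)} {X : Finset α} {i : ℕ} (h : nmeet D X i = 0)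
    {c : Finset α} (hc : c ∈ D) : (c ∩ X).card ≠ i := by
  intro hi
  have : c ∈ D.filter fun c => (c ∩ X).card = i := mem_filter.mpr ⟨hc, hi⟩
  rw [nmeet, card_eq_zero] at h
  rw [h] at this
  exact absurd this (notMem_empty _)

/-- The moment equations at a block `b`, over the other blocks. -/
theorem moment_block {t k : ℕ} {B : Set (Finset α)} (hB : IsSteinerSystem t k B)
    {b : Finset α} (hb : b ∈ B) (j lam : ℕ)
    (hlam : ∀ u : Finset α, u.card = j → (thru B u).card = lam) :
    ∑ i ∈ range t, nmeet ((thru B ∅).erase b) b i * Nat.choose i j + Nat.choose k j =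
      Nat.choose k j * lam := by
  have h := moment (B := B) (s := ∅) (X := b) (disjoint_empty_left _) j lam (by simpa using hlam)
  rw [← Finset.sum_erase_add _ _ (mem_thru_empty.mpr hb), inter_self, hB.1 b hb,
    sum_nmeet _ b t (fun i => Nat.choose i j)] at h
  · exact h
  · intro c hc
    rw [mem_erase, mem_thru_empty] at hc
    exact steiner_inter_lt hB hc.2 hb hc.1

theorem lam_of {t k v : ℕ} {B : Set (Finset α)} (hB : IsSteinerSystem t k B)
    (hα : Fintype.card α = v) (j lam : ℕ) (hj : j ≤ t) (hpos : 0 < Nat.choose (k - j) (t - j))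
    (h : lam * Nat.choose (k - j) (t - j) = Nat.choose (v - j) (t - j)) (u : Finset α)
    (hu : u.card = j) : (thru B u).card = lam := by
  have := card_thru_mul hB (s := u) (hu ▸ hj)
  rw [hu, hα, ← h] at this
  exact Nat.eq_of_mul_eq_mul_right hpos this

/-! ### S(5,8,24) -/

section W24
variable {B : Set (Finset α)} (hα : Fintype.card α = 24) (hB : IsSteinerSystem 5 8 B)
include hα hB

theorem w24_lam0 (u : Finset α) (hu : u.card = 0) : (thru B u).card = 759 :=
  lam_of hB hα 0 759 (by norm_num) (by decide) (by norm_num [Nat.choose]) u hu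
theorem w24_lam1 (u : Finset α) (hu : u.card = 1) : (thru B u).card = 253 :=
  lam_of hB hα 1 253 (by norm_num) (by decide) (by norm_num [Nat.choose]) u hu
theorem w24_lam2 (u : Finset α) (hu : u.card = 2) : (thru B u).card = 77 :=
  lam_of hB hα 2 77 (by norm_num) (by decide) (by norm_num [Nat.choose]) u hu
theorem w24_lam3 (u : Finset α) (hu : u.card = 3) : (thru B u).card = 21 :=
  lam_of hB hα 3 21 (by norm_num) (by decide) (by norm_num [Nat.choose]) u hu
theorem w24_lam4 (u : Finset α) (hu : u.card = 4) : (thru B u).card = 5 :=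
  lam_of hB hα 4 5 (by norm_num) (by decide) (by norm_num [Nat.choose]) u hu

theorem w24_nmeet {b : Finset α} (hb : b ∈ B) :
    nmeet ((thru B ∅).erase b) b 0 = 30 ∧ nmeet ((thru B ∅).erase b) b 1 = 0 ∧
    nmeet ((thru B ∅).erase b) b 2 = 448 ∧ nmeet ((thru B ∅).erase b) b 3 = 0 ∧
    nmeet ((thru B ∅).erase b) b 4 = 280 := by
  have h0 := moment_block hB hb 0 _ (w24_lam0 hα hB)
  have h1 := moment_block hB hb 1 _ (w24_lam1 hα hB)
  have h2 := moment_block hB hb 2 _ (w24_lam2 hα hB)
  have h3 := moment_block hB hb 3 _ (w24_lam3 hα hB)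
  have h4 := moment_block hB hb 4 _ (w24_lam4 hα hB)
  simp only [sum_range_succ, range_zero, sum_empty, Nat.choose] at h0 h1 h2 h3 h4
  omega

theorem w24_inter {b c : Finset α} (hb : b ∈ B) (hc : c ∈ B) (hbc : b ≠ c) :
    (b ∩ c).card = 0 ∨ (b ∩ c).card = 2 ∨ (b ∩ c).card = 4 := by
  obtain ⟨-, h1, -, h3, -⟩ := w24_nmeet hα hB hc
  have hm : b ∈ (thru B ∅).erase c := mem_erase.mpr ⟨hbc, mem_thru_empty.mpr hb⟩
  have := nmeet_eq_zero h1 hm
  have := nmeet_eq_zero h3 hm
  have := steiner_inter_lt hB hb hc hbc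
  omega

theorem w24_even {b c : Finset α} (hb : b ∈ B) (hc : c ∈ B) : Even (b ∩ c).card := by
  by_cases h : b = c
  · subst h; rw [inter_self, hB.1 b hb]; decide
  · rcases w24_inter hα hB hb hc h with h | h | h <;> rw [h] <;> decide

omit hα in
/-- An 8-set meeting every block evenly is a block. -/
theorem w24_mem_of_even {X : Finset α} (hX : X.card = 8) (h : ∀ c ∈ B, Even (c ∩ X).card) :
    X ∈ B := by
  by_contra hXB
  have hm := moment (B := B) (s := ∅) (X := X) (disjoint_empty_left _) 5 1
    (fun u hu => card_thru_eq_one hB (by simpa using hu))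
  have hd : 6 ∣ ∑ c ∈ thru B ∅, Nat.choose (c ∩ X).card 5 := by
    refine Finset.dvd_sum fun c hc => ?_
    have hc := mem_thru_empty.mp hc
    have h8 : (c ∩ X).card ≤ 8 := hX ▸ card_le_card inter_subset_right
    have hne : (c ∩ X).card ≠ 8 := by
      intro h8
      have e1 : c ∩ X = X := eq_of_subset_of_card_le inter_subset_right (by omega)
      have e2 : c ∩ X = c := eq_of_subset_of_card_le inter_subset_left (by rw [hB.1 c hc]; omega)
      exact hXB (e1 ▸ e2.symm ▸ hc)
    obtain ⟨r, hr⟩ := h c hc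
    have : r ≤ 3 := by omega
    rw [hr]
    interval_cases r <;> decide
  rw [hm, hX] at hd
  revert hd; decide

end W24

/-! ### S(4,7,23) -/

section W23
variable {B : Set (Finset α)} (hα : Fintype.card α = 23) (hB : IsSteinerSystem 4 7 B)
include hα hB

theorem w23_lam0 (u : Finset α) (hu : u.card = 0) : (thru B u).card = 253 :=
  lam_of hB hα 0 253 (by norm_num) (by decide) (by norm_num [Nat.choose]) u hu
theorem w23_lam1 (u : Finset α) (hu : u.card = 1) : (thru B u).card = 77 :=
  lam_of hB hα 1 77 (by norm_num) (by decide) (by norm_num [Nat.choose]) u hu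
theorem w23_lam2 (u : Finset α) (hu : u.card = 2) : (thru B u).card = 21 :=
  lam_of hB hα 2 21 (by norm_num) (by decide) (by norm_num [Nat.choose]) u hu
theorem w23_lam3 (u : Finset α) (hu : u.card = 3) : (thru B u).card = 5 :=
  lam_of hB hα 3 5 (by norm_num) (by decide) (by norm_num [Nat.choose]) u hu

theorem w23_nmeet {b : Finset α} (hb : b ∈ B) :
    nmeet ((thru B ∅).erase b) b 0 = 0 ∧ nmeet ((thru B ∅).erase b) b 1 = 112 ∧
    nmeet ((thru B ∅).erase b) b 2 = 0 ∧ nmeet ((thru B ∅).erase b) b 3 = 140 := by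
  have h0 := moment_block hB hb 0 _ (w23_lam0 hα hB)
  have h1 := moment_block hB hb 1 _ (w23_lam1 hα hB)
  have h2 := moment_block hB hb 2 _ (w23_lam2 hα hB)
  have h3 := moment_block hB hb 3 _ (w23_lam3 hα hB)
  simp only [sum_range_succ, range_zero, sum_empty, Nat.choose] at h0 h1 h2 h3
  omega

theorem w23_inter {b c : Finset α} (hb : b ∈ B) (hc : c ∈ B) (hbc : b ≠ c) :
    (b ∩ c).card = 1 ∨ (b ∩ c).card = 3 := by
  obtain ⟨h0, -, h2, -⟩ := w23_nmeet hα hB hc
  have hm : b ∈ (thru B ∅).erase c := mem_erase.mpr ⟨hbc, mem_thru_empty.mpr hb⟩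
  have := nmeet_eq_zero h0 hm
  have := nmeet_eq_zero h2 hm
  have := steiner_inter_lt hB hb hc hbc
  omega

theorem w23_odd {b c : Finset α} (hb : b ∈ B) (hc : c ∈ B) : Odd (b ∩ c).card := by
  by_cases h : b = c
  · subst h; rw [inter_self, hB.1 b hb]; decide
  · rcases w23_inter hα hB hb hc h with h | h <;> rw [h] <;> decide

end W23

/-! ### S(3,6,22) -/

section W22
variable {B : Set (Finset α)} (hα : Fintype.card α = 22) (hB : IsSteinerSystem 3 6 B)
include hα hB

theorem w22_lam0 (u : Finset α) (hu : u.card = 0) : (thru B u).card = 77 :=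
  lam_of hB hα 0 77 (by norm_num) (by decide) (by norm_num [Nat.choose]) u hu
theorem w22_lam1 (u : Finset α) (hu : u.card = 1) : (thru B u).card = 21 :=
  lam_of hB hα 1 21 (by norm_num) (by decide) (by norm_num [Nat.choose]) u hu
theorem w22_lam2 (u : Finset α) (hu : u.card = 2) : (thru B u).card = 5 :=
  lam_of hB hα 2 5 (by norm_num) (by decide) (by norm_num [Nat.choose]) u hu

theorem w22_nmeet {b : Finset α} (hb : b ∈ B) :
    nmeet ((thru B ∅).erase b) b 0 = 16 ∧ nmeet ((thru B ∅).erase b) b 1 = 0 ∧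
    nmeet ((thru B ∅).erase b) b 2 = 60 := by
  have h0 := moment_block hB hb 0 _ (w22_lam0 hα hB)
  have h1 := moment_block hB hb 1 _ (w22_lam1 hα hB)
  have h2 := moment_block hB hb 2 _ (w22_lam2 hα hB)
  simp only [sum_range_succ, range_zero, sum_empty, Nat.choose] at h0 h1 h2
  omega

theorem w22_inter {b c : Finset α} (hb : b ∈ B) (hc : c ∈ B) (hbc : b ≠ c) :
    (b ∩ c).card = 0 ∨ (b ∩ c).card = 2 := by
  obtain ⟨-, h1, -⟩ := w22_nmeet hα hB hc
  have hm : b ∈ (thru B ∅).erase c := mem_erase.mpr ⟨hbc, mem_thru_empty.mpr hb⟩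
  have := nmeet_eq_zero h1 hm
  have := steiner_inter_lt hB hb hc hbc
  omega

theorem w22_even {b c : Finset α} (hb : b ∈ B) (hc : c ∈ B) : Even (b ∩ c).card := by
  by_cases h : b = c
  · subst h; rw [inter_self, hB.1 b hb]; decide
  · rcases w22_inter hα hB hb hc h with h | h <;> rw [h] <;> decide

end W22

/-! ### S(5,6,12) -/

section W12
variable {B : Set (Finset α)} (hα : Fintype.card α = 12) (hB : IsSteinerSystem 5 6 B)
include hα hB

theorem w12_lam0 (u : Finset α) (hu : u.card = 0) : (thru B u).card = 132 :=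
  lam_of hB hα 0 132 (by norm_num) (by decide) (by norm_num [Nat.choose]) u hu
theorem w12_lam1 (u : Finset α) (hu : u.card = 1) : (thru B u).card = 66 :=
  lam_of hB hα 1 66 (by norm_num) (by decide) (by norm_num [Nat.choose]) u hu
theorem w12_lam2 (u : Finset α) (hu : u.card = 2) : (thru B u).card = 30 :=
  lam_of hB hα 2 30 (by norm_num) (by decide) (by norm_num [Nat.choose]) u hu
theorem w12_lam3 (u : Finset α) (hu : u.card = 3) : (thru B u).card = 12 :=
  lam_of hB hα 3 12 (by norm_num) (by decide) (by norm_num [Nat.choose]) u hu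
theorem w12_lam4 (u : Finset α) (hu : u.card = 4) : (thru B u).card = 4 :=
  lam_of hB hα 4 4 (by norm_num) (by decide) (by norm_num [Nat.choose]) u hu

theorem w12_nmeet {b : Finset α} (hb : b ∈ B) :
    nmeet ((thru B ∅).erase b) b 0 = 1 ∧ nmeet ((thru B ∅).erase b) b 1 = 0 ∧
    nmeet ((thru B ∅).erase b) b 2 = 45 ∧ nmeet ((thru B ∅).erase b) b 3 = 40 ∧
    nmeet ((thru B ∅).erase b) b 4 = 45 := by
  have h0 := moment_block hB hb 0 _ (w12_lam0 hα hB)
  have h1 := moment_block hB hb 1 _ (w12_lam1 hα hB)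
  have h2 := moment_block hB hb 2 _ (w12_lam2 hα hB)
  have h3 := moment_block hB hb 3 _ (w12_lam3 hα hB)
  have h4 := moment_block hB hb 4 _ (w12_lam4 hα hB)
  simp only [sum_range_succ, range_zero, sum_empty, Nat.choose] at h0 h1 h2 h3 h4
  omega

theorem w12_compl {b : Finset α} (hb : b ∈ B) : bᶜ ∈ B := by
  obtain ⟨h0, -⟩ := w12_nmeet hα hB hb
  obtain ⟨c, hc⟩ : (((thru B ∅).erase b).filter fun c => (c ∩ b).card = 0).Nonempty := by
    rw [← card_pos]; rw [nmeet] at h0; omega
  rw [mem_filter, mem_erase, mem_thru_empty, card_eq_zero, ← disjoint_iff_inter_eq_empty] at hc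
  have : c = bᶜ := by
    apply eq_of_subset_of_card_le
    · exact subset_compl_iff_disjoint_right.mpr hc.2
    · rw [card_compl, hα, hB.1 b hb, hB.1 c hc.1.2]
  exact this ▸ hc.1.2

end W12

end H17
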