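import Mathlib
import Cfsg.Agent.Base
import Cfsg.Agent.Lib.Golay.M24

/-!
A kernel-checked search engine for uniqueness of block designs living on (part of) the 24 points.
A relative design: all blocks contain `ofMask z`, lie in `ofMask w`, have `k` points, every
5-set between `z` and `w` lies in a block, and two blocks meet in an allowed number of points.
-/

set_option autoImplicit false

namespace H17.Eng

open H15 Cfsg
open scoped Pointwise

/-- Parameters of a relative design. -/
structure Par where
  z : ℕ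
  w : ℕ
  k : ℕ
  okm : ℕ

/-- Relative designs. -/
structure RD (P : Par) (B : Set (Finset GolayPt)) : Prop where
  sub : ∀ b ∈ B, ofMask P.z ⊆ b ∧ b ⊆ ofMask P.w
  card : ∀ b ∈ B, b.card = P.k
  ex : ∀ T, ofMask P.z ⊆ T → T ⊆ ofMask P.w → T.card = 5 → ∃ b ∈ B, T ⊆ b
  ok : ∀ b ∈ B, ∀ c ∈ B, P.okm.testBit (b ∩ c).card = true

/-- Admissible relabellings. -/
def Adm (P : Par) (τ : Equiv.Perm GolayPt) : Prop :=
  τ • ofMask P.w = ofMask P.w ∧ ∀ p ∈ ofMask P.z, τ p = p

theorem Adm.mul {P : Par} {σ τ : Equiv.Perm GolayPt} (hσ : Adm P σ) (hτ : Adm P τ) :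
    Adm P (σ * τ) :=
  ⟨by rw [mul_smul, hτ.1, hσ.1], fun p hp => by rw [Equiv.Perm.mul_apply, hτ.2 p hp, hσ.2 p hp]⟩

theorem RD.image {P : Par} {B : Set (Finset GolayPt)} (h : RD P B) {τ : Equiv.Perm GolayPt}
    (hτ : Adm P τ) : RD P ((fun b => τ • b) '' B) := by
  have hz : τ • ofMask P.z = ofMask P.z := smul_eq_of_fix hτ.2
  refine ⟨?_, ?_, ?_, ?_⟩
  · rintro _ ⟨b, hb, rfl⟩
    constructor
    · rw [← hz]; exact (smul_subset_smul_iff _ _ _).2 (h.sub b hb).1
    · rw [← hτ.1]; exact (smul_subset_smul_iff _ _ _).2 (h.sub b hb).2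
  · rintro _ ⟨b, hb, rfl⟩
    rw [card_smul, h.card b hb]
  · intro T h1 h2 h3
    obtain ⟨b, hb, hT⟩ := h.ex (τ⁻¹ • T)
      (by rw [← smul_subset_smul_iff τ, smul_inv_smul, hz]; exact h1)
      (by rw [← smul_subset_smul_iff τ, smul_inv_smul, hτ.1]; exact h2) (by rw [card_smul, h3])
    exact ⟨τ • b, ⟨b, hb, rfl⟩, by rw [← smul_subset_smul_iff τ, smul_inv_smul] at hT; exact hT⟩
  · rintro _ ⟨b, hb, rfl⟩ _ ⟨c, hc, rfl⟩
    rw [← smul_inter, card_smul]
    exact h.ok b hb c hc

/-- `B` can be relabelled into the model `M`. -/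
def Good (P : Par) (M B : Set (Finset GolayPt)) : Prop :=
  ∃ σ, Adm P σ ∧ ∀ b ∈ B, σ • b ∈ M

/-- Every relative design containing the listed blocks can be relabelled into the model. -/
def Sem (P : Par) (M : Set (Finset GolayPt)) (K : List ℕ) : Prop :=
  ∀ B, RD P B → (∀ c ∈ K, ofMask c ∈ B) → Good P M B

/-- `f` holds on all members of the list. -/
def allL {β : Type} (f : β → Bool) (L : List β) : Bool :=
  List.rec true (fun b _ ih => Bool.rec false ih (f b)) L

theorem allL_iff {β : Type} (f : β → Bool) (L : List β) :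
    allL f L = true ↔ ∀ b ∈ L, f b = true := by
  induction L with
  | nil => simp [allL]
  | cons b L ih =>
    show @Bool.rec (fun _ => Bool) false (allL f L) (f b) = true ↔ _
    cases hf : f b
    · simp [hf]
    · simp only [List.mem_cons, forall_eq_or_imp, hf, true_and]
      exact ih

/-- compatibility with the known blocks -/
def compat (okm : ℕ) (K : List ℕ) (b : ℕ) : Bool :=
  allL (fun c => bit okm (wt (Nat.land b c))) K

/-- normal form with respect to the twin pairs -/
def twinOk (tw : List (ℕ × ℕ)) (b : ℕ) : Bool :=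
  allL (fun p => Bool.rec true (bit b p.1) (bit b p.2)) tw

/-- enumerate the ways to add `r` points of `fr` below `i` to `b`, keeping those passing `fin`. -/
def go (fin : ℕ → Bool) (fr : ℕ) (i : ℕ) : ℕ → ℕ → List ℕ → List ℕ :=
  Nat.rec (fun b r acc => Nat.rec (Bool.rec acc (b :: acc) (fin b)) (fun _ _ => acc) r)
    (fun i ih b r acc => Nat.rec (Bool.rec acc (b :: acc) (fin b))
      (fun r' _ => Bool.rec (ih b r acc)
        (ih b r (force (Nat.lor b (Nat.shiftLeft 1 i)) fun b' => ih b' r' acc)) (bit fr i)) r) i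

theorem go_r0 (fin : ℕ → Bool) (fr i b : ℕ) (acc : List ℕ) :
    go fin fr i b 0 acc = if fin b then b :: acc else acc := by
  cases i <;> (show @Bool.rec (fun _ => List ℕ) acc (b :: acc) (fin b) = _; cases fin b <;> rfl)

theorem go_zero (fin : ℕ → Bool) (fr b r : ℕ) (acc : List ℕ) :
    go fin fr 0 b (r + 1) acc = acc := rfl

theorem go_succ (fin : ℕ → Bool) (fr i b r : ℕ) (acc : List ℕ) :
    go fin fr (i + 1) b (r + 1) acc =
      if bit fr i then go fin fr i b (r + 1) (go fin fr i (b ||| 2 ^ i) r acc)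
      else go fin fr i b (r + 1) acc := by
  show @Bool.rec (fun _ => List ℕ) (go fin fr i b (r + 1) acc)
    (go fin fr i b (r + 1) (force (b ||| (1 <<< i)) fun b' => go fin fr i b' r acc)) (bit fr i) = _
  rw [force_eq, Nat.one_shiftLeft]
  cases bit fr i <;> rfl

theorem sub_go (fin : ℕ → Bool) (fr : ℕ) : ∀ (i b r : ℕ) (acc : List ℕ) (y : ℕ), y ∈ acc →
    y ∈ go fin fr i b r acc := by
  intro i
  induction i with
  | zero =>
    intro b r acc y hy
    cases r with
    | zero => rw [go_r0]; split_ifs; exacts [List.mem_cons_of_mem _ hy, hy]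
    | succ r => exact hy
  | succ i ih =>
    intro b r acc y hy
    cases r with
    | zero => rw [go_r0]; split_ifs; exacts [List.mem_cons_of_mem _ hy, hy]
    | succ r =>
      rw [go_succ]; split_ifs
      · exact ih _ _ _ _ (ih _ _ _ _ hy)
      · exact ih _ _ _ _ hy

theorem mem_go (fin : ℕ → Bool) (fr y : ℕ) (hy : fin y = true) :
    ∀ (i b r : ℕ) (acc : List ℕ),
      (∀ j, (i ≤ j ∨ fr.testBit j = false) → y.testBit j = b.testBit j) →
      (∀ j < i, fr.testBit j = true → b.testBit j = false) →
      ((Finset.range i).filter fun j => (fr.testBit j && y.testBit j) = true).card = r →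
      y ∈ go fin fr i b r acc := by
  have h0 : ∀ (i b : ℕ) (acc : List ℕ),
      (∀ j, (i ≤ j ∨ fr.testBit j = false) → y.testBit j = b.testBit j) →
      (∀ j < i, fr.testBit j = true → b.testBit j = false) →
      ((Finset.range i).filter fun j => (fr.testBit j && y.testBit j) = true).card = 0 →
      y ∈ go fin fr i b 0 acc := by
    intro i b acc h1 h2 h3
    have : y = b := by
      apply Nat.eq_of_testBit_eq
      intro j
      by_cases hj : i ≤ j
      · exact h1 j (Or.inl hj)
      · cases hf : fr.testBit j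
        · exact h1 j (Or.inr hf)
        · rw [h2 j (by omega) hf]
          rw [Finset.card_eq_zero, Finset.filter_eq_empty_iff] at h3
          have := h3 (Finset.mem_range.mpr (not_le.mp hj))
          simpa [hf] using this
    rw [go_r0, ← this, if_pos hy]
    exact List.mem_cons_self
  intro i
  induction i with
  | zero =>
    intro b r acc h1 h2 h3
    have : r = 0 := by simpa using h3.symm
    subst this
    exact h0 0 b acc h1 h2 h3
  | succ i ih =>
    intro b r acc h1 h2 h3
    cases r with
    | zero => exact h0 _ b acc h1 h2 h3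
    | succ r =>
      rw [go_succ, bit_eq]
      rw [Finset.range_add_one, Finset.filter_insert] at h3
      have hb : ∀ j, (i ≤ j ∨ fr.testBit j = false) → (fr.testBit i && y.testBit i) = false →
          y.testBit j = b.testBit j := by
        intro j hj hi
        rcases hj with hj | hj
        · rcases Nat.eq_or_lt_of_le hj with rfl | hj
          · cases hf : fr.testBit i
            · exact h1 i (Or.inr hf)
            · rw [h2 i (by omega) hf]; simpa [hf] using hi
          · exact h1 j (Or.inl hj)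
        · exact h1 j (Or.inr hj)
      cases hi : (fr.testBit i && y.testBit i)
      · rw [hi] at h3
        simp only [Bool.false_eq_true, if_false] at h3
        split_ifs
        · exact ih _ _ _ (fun j hj => hb j hj hi) (fun j hj => h2 j (by omega)) h3
        · exact ih _ _ _ (fun j hj => hb j hj hi) (fun j hj => h2 j (by omega)) h3
      · rw [hi, if_pos rfl, Finset.card_insert_of_notMem (by simp)] at h3
        rw [Bool.and_eq_true] at hi
        rw [if_pos hi.1]
        refine sub_go _ _ _ _ _ _ _ (ih _ _ _ ?_ ?_ (by omega))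
        · intro j hj
          rw [Nat.testBit_or, Nat.testBit_two_pow]
          by_cases hij : i = j
          · subst hij; simp [hi.2]
          · rw [h1 j (by rcases hj with hj | hj; exacts [Or.inl (by omega), Or.inr hj])]
            simp [hij]
        · intro j hj hf
          rw [Nat.testBit_or, Nat.testBit_two_pow, h2 j (by omega) hf]
          simp; omega

/-- the candidate blocks through `T` -/
def cands (P : Par) (K : List ℕ) (T : ℕ) (tw : List (ℕ × ℕ)) : List ℕ :=
  force (Nat.xor P.w T) fun fr =>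
    go (fun b => Bool.rec false (compat P.okm K b) (twinOk tw b)) fr 24 T (Nat.sub P.k 5) []

/-- side conditions of a branching node -/
def nodeOk (P : Par) (K : List ℕ) (T : ℕ) (tw : List (ℕ × ℕ)) : Bool :=
  Nat.beq (wt T) 5 && Nat.beq (Nat.land P.z T) P.z && Nat.beq (Nat.land T P.w) T &&
    Nat.ble P.w 16777215 &&
    allL (fun p : ℕ × ℕ => Nat.blt p.1 p.2 && Nat.blt p.2 24 && bit P.w p.1 && bit P.w p.2 &&
      !(bit T p.1) && !(bit T p.2) && allL (fun c => bit c p.1 == bit c p.2) K) tw

theorem testBit_mask_iff (s : Finset GolayPt) (j : ℕ) :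
    (mask s).testBit j = true ↔ j < 24 ∧ pt j ∈ s := by
  have : (mask s).testBit j = (decide (j < 24) && decide (pt j ∈ s)) := testBit_maskF _ _ _
  rw [this]; simp

theorem mask_mem_cands {P : Par} {K : List ℕ} {T : ℕ} {tw : List (ℕ × ℕ)}
    (h5 : wt T = 5) (hTw' : ∀ j, T.testBit j = true → P.w.testBit j = true)
    (hw' : ∀ j, P.w.testBit j = true → j < 24) {B : Set (Finset GolayPt)} (hB : RD P B)
    (hK : ∀ c ∈ K, ofMask c ∈ B) {b : Finset GolayPt} (hb : b ∈ B) (hTb : ofMask T ⊆ b)
    (ht : twinOk tw (mask b) = true) : mask b ∈ cands P K T tw := by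
  have hx : ∀ j, (Nat.xor P.w T).testBit j = true ↔ P.w.testBit j = true ∧ T.testBit j = false := by
    intro j
    have : (Nat.xor P.w T).testBit j = (P.w.testBit j ^^ T.testBit j) := Nat.testBit_xor _ _ _
    rw [this]
    have := hTw' j
    revert this
    cases P.w.testBit j <;> cases T.testBit j <;> simp
  have hm := testBit_mask_iff b
  have hi : ∀ c, (b ∩ ofMask c).card = wt (Nat.land (mask b) c) := fun c => by
    rw [← card_ofMask, ofMask_land, ofMask_mask]
  generalize mask b = m at *
  rw [cands, force_eq]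
  generalize Nat.xor P.w T = fr at *
  apply mem_go
  · rw [ht]
    show compat P.okm K m = true
    rw [compat, allL_iff]
    intro c hc
    rw [bit_eq, ← hi]
    exact hB.ok b hb _ (hK c hc)
  · intro j hj
    rw [Bool.eq_iff_iff, hm]
    constructor
    · rintro ⟨hj24, hjb⟩
      have h1 := (pt_mem_ofMask hj24).1 ((hB.sub b hb).2 hjb)
      by_contra hT
      have := (hx j).2 ⟨h1, by simpa using hT⟩
      rcases hj with hj | hj
      · omega
      · rw [hj] at this; exact absurd this (by simp)
    · intro hT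
      have hj24 := hw' j (hTw' j hT)
      exact ⟨hj24, hTb ((pt_mem_ofMask hj24).2 hT)⟩
  · intro j _ hf
    exact ((hx j).1 hf).2
  · have e : ((Finset.range 24).filter fun j =>
        (fr.testBit j && m.testBit j) = true).card = (b \ ofMask T).card := by
      symm
      apply Finset.card_bij (fun p _ => idx p)
      · intro p hp
        rw [Finset.mem_sdiff, mem_ofMask] at hp
        have h1 := mem_ofMask.1 ((hB.sub b hb).2 hp.1)
        rw [Finset.mem_filter, Finset.mem_range, Bool.and_eq_true, hx, hm, pt_idx]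
        exact ⟨idx_lt p, ⟨h1, by simpa using hp.2⟩, idx_lt p, hp.1⟩
      · intro p _ q _ h
        exact idx_injective h
      · intro j hj
        rw [Finset.mem_filter, Finset.mem_range, Bool.and_eq_true, hx, hm] at hj
        refine ⟨pt j, ?_, idx_pt hj.1⟩
        rw [Finset.mem_sdiff, pt_mem_ofMask hj.1, hj.2.1.2]
        exact ⟨hj.2.2.2, by simp⟩
    rw [e, Finset.card_sdiff_of_subset hTb, card_ofMask, h5, hB.card b hb]
    rfl

theorem swap_smul_eq {a c : GolayPt} {s : Finset GolayPt} (hs : a ∈ s ↔ c ∈ s) :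
    Equiv.swap a c • s = s := by
  ext p
  rw [mem_smul_finset_iff, Equiv.swap_inv, Equiv.swap_apply_def]
  split_ifs with a1 a2
  · rw [a1]; exact hs.symm
  · rw [a2]; exact hs
  · rfl

theorem mask_swap_lt {i j : ℕ} (h1 : i < j) (h2 : j < 24) {b : Finset GolayPt} (hj : pt j ∈ b)
    (hi : pt i ∉ b) : mask (Equiv.swap (pt i) (pt j) • b) < mask b := by
  have hi24 : i < 24 := by omega
  apply Nat.lt_of_testBit j
  · rw [Bool.eq_false_iff, Ne, testBit_mask_iff, mem_smul_finset_iff, Equiv.swap_inv,
      Equiv.swap_apply_right]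
    exact fun h => hi h.2
  · rw [testBit_mask_iff]; exact ⟨h2, hj⟩
  · intro l hl
    rw [Bool.eq_iff_iff, testBit_mask_iff, testBit_mask_iff]
    refine and_congr_right fun hl24 => ?_
    rw [mem_smul_finset_iff, Equiv.swap_inv, Equiv.swap_apply_of_ne_of_ne]
    · intro e; have := pt_inj hl24 hi24 e; omega
    · intro e; have := pt_inj hl24 h2 e; omega

theorem not_twinOk {tw : List (ℕ × ℕ)} {m : ℕ} (h : ¬ twinOk tw m = true) :
    ∃ p ∈ tw, m.testBit p.2 = true ∧ ¬ m.testBit p.1 = true := by
  rw [twinOk, allL_iff] at h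
  push Not at h
  obtain ⟨p, hp, h⟩ := h
  refine ⟨p, hp, ?_⟩
  rw [bit_eq, bit_eq] at h
  revert h
  cases m.testBit p.2 <;> cases m.testBit p.1 <;> simp

theorem node_sound {P : Par} {M : Set (Finset GolayPt)} {K : List ℕ} {T : ℕ} {tw : List (ℕ × ℕ)}
    (h : nodeOk P K T tw = true) (hc : ∀ b ∈ cands P K T tw, Sem P M (b :: K)) : Sem P M K := by
  simp only [nodeOk, Bool.and_eq_true, Nat.beq_eq, Nat.ble_eq, allL_iff, Nat.blt_eq,
    Bool.not_eq_true', bit_eq, beq_iff_eq] at h
  obtain ⟨⟨⟨⟨h5, hz⟩, hw⟩, hw24⟩, htw⟩ := h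
  have hzT : ofMask P.z ⊆ ofMask T := ofMask_subset_of_land hz
  have hTw : ofMask T ⊆ ofMask P.w := ofMask_subset_of_land hw
  have hw' : ∀ j, P.w.testBit j = true → j < 24 := fun j hj => by
    by_contra hlt
    have h24 : 24 ≤ j := by omega
    have h2 : 2 ^ 24 ≤ 2 ^ j := Nat.pow_le_pow_right (by norm_num) h24
    have : P.w < 2 ^ j := by omega
    rw [Nat.testBit_eq_false_of_lt this] at hj
    exact absurd hj (by simp)
  have hTw' : ∀ j, T.testBit j = true → P.w.testBit j = true := fun j hj => by
    have : (T &&& P.w).testBit j = true := by rw [show T &&& P.w = T from hw]; exact hj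
    rw [Nat.testBit_and, Bool.and_eq_true] at this
    exact this.2
  have key : ∀ n, ∀ B, RD P B → (∀ c ∈ K, ofMask c ∈ B) → ∀ b ∈ B, ofMask T ⊆ b → mask b = n →
      Good P M B := by
    intro n
    induction n using Nat.strong_induction_on with
    | _ n ih =>
    intro B hB hK b hb hTb hn
    by_cases ht : twinOk tw (mask b) = true
    · refine hc (mask b) (mask_mem_cands h5 hTw' hw' hB hK hb hTb ht) B hB ?_
      intro c hc
      rcases List.mem_cons.1 hc with rfl | hc
      · rw [ofMask_mask]; exact hb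
      · exact hK c hc
    · obtain ⟨⟨i, j⟩, hp, hj, hi⟩ := not_twinOk ht
      obtain ⟨⟨⟨⟨⟨⟨h1, h2⟩, h3⟩, h4⟩, h6⟩, h7⟩, h8⟩ := htw _ hp
      simp only at h1 h2 h3 h4 h6 h7 h8 hi hj
      have hi24 : i < 24 := by omega
      rw [testBit_mask_iff] at hi hj
      have hadm : Adm P (Equiv.swap (pt i) (pt j)) := by
        refine ⟨swap_smul_eq (by rw [pt_mem_ofMask hi24, pt_mem_ofMask h2, h3, h4]),
          fun p hp => ?_⟩
        have hpT := hzT hp
        rw [Equiv.swap_apply_of_ne_of_ne]
        · rintro rfl; rw [pt_mem_ofMask hi24, h6] at hpT; exact absurd hpT (by simp)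
        · rintro rfl; rw [pt_mem_ofMask h2, h7] at hpT; exact absurd hpT (by simp)
      obtain ⟨σ, hσ, hM⟩ := ih _ (hn ▸ mask_swap_lt h1 h2 hj.2 (fun h => hi ⟨hi24, h⟩)) _
        (hB.image hadm)
        (fun c hc => ⟨ofMask c, hK c hc, swap_smul_eq (by
          rw [pt_mem_ofMask hi24, pt_mem_ofMask h2, h8 c hc])⟩) _ ⟨b, hb, rfl⟩
        (by
          rw [← swap_smul_eq (a := pt i) (c := pt j) (s := ofMask T)
            (by rw [pt_mem_ofMask hi24, pt_mem_ofMask h2, h6, h7])]
          exact (smul_subset_smul_iff _ _ _).2 hTb) rfl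
      exact ⟨σ * _, hσ.mul hadm, fun c hc => by rw [mul_smul]; exact hM _ ⟨c, hc, rfl⟩⟩
  intro B hB hK
  obtain ⟨b, hb, hTb⟩ := hB.ex (ofMask T) hzT hTw (by rw [card_ofMask, h5])
  exact key _ B hB hK b hb hTb rfl

/-- Search-tree certificates. -/
inductive Tr : Type
  | leaf (σ : ℕ) (c : List ℕ) : Tr
  | node (T : ℕ) (tw : List (ℕ × ℕ)) (ch : Tr) : Tr
  | nil : Tr
  | cons (b : ℕ) (sub rest : Tr) : Tr

/-- The checker; `none` is the mode of a subtree, `some L` the mode of a list of children. -/
noncomputable def chkG (nok : List ℕ → ℕ → List (ℕ × ℕ) → Bool)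
    (cs : List ℕ → ℕ → List (ℕ × ℕ) → List ℕ) (lf : ℕ → List ℕ → List ℕ → Bool) (t : Tr) :
    List ℕ → Option (List ℕ) → Bool :=
  Tr.rec
    (fun σ c K o => Option.rec (lf σ c K) (fun _ => false) o)
    (fun T tw _ ih K o => Option.rec
      (Bool.rec false (ih K (some (cs K T tw))) (nok K T tw)) (fun _ => false) o)
    (fun _ o => Option.rec false (fun L => List.rec true (fun _ _ _ => false) L) o)
    (fun b _ _ ih1 ih2 K o => Option.rec false (fun L => List.rec false
      (fun x L' _ => Bool.rec false (Bool.rec false (ih2 K (some L')) (ih1 (b :: K) none))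
        (Nat.beq x b)) L) o) t

theorem chkG_sound {S : List ℕ → Prop} {nok : List ℕ → ℕ → List (ℕ × ℕ) → Bool}
    {cs : List ℕ → ℕ → List (ℕ × ℕ) → List ℕ} {lf : ℕ → List ℕ → List ℕ → Bool}
    (hn : ∀ K T tw, nok K T tw = true → (∀ b ∈ cs K T tw, S (b :: K)) → S K)
    (hlf : ∀ σ c K, lf σ c K = true → S K) (t : Tr) :
    (∀ K, chkG nok cs lf t K none = true → S K) ∧
      ∀ K L, chkG nok cs lf t K (some L) = true → ∀ b ∈ L, S (b :: K) := by
  induction t with
  | leaf σ c => exact ⟨fun K h => hlf σ c K h, fun K L h => absurd h Bool.false_ne_true⟩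
  | node T tw ch ih =>
    refine ⟨fun K h => ?_, fun K L h => absurd h Bool.false_ne_true⟩
    have h : @Bool.rec (fun _ => Bool) false (chkG nok cs lf ch K (some (cs K T tw)))
      (nok K T tw) = true := h
    cases hk : nok K T tw
    · rw [hk] at h; exact absurd h Bool.false_ne_true
    · rw [hk] at h
      exact hn K T tw hk (ih.2 K _ h)
  | nil =>
    refine ⟨fun K h => absurd h Bool.false_ne_true, fun K L h => ?_⟩
    cases L with
    | nil => simp
    | cons x L => exact absurd h Bool.false_ne_true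
  | cons b sub rest ih1 ih2 =>
    refine ⟨fun K h => absurd h Bool.false_ne_true, fun K L h => ?_⟩
    cases L with
    | nil => simp
    | cons x L =>
      have h : @Bool.rec (fun _ => Bool) false (@Bool.rec (fun _ => Bool) false
        (chkG nok cs lf rest K (some L)) (chkG nok cs lf sub (b :: K) none)) (Nat.beq x b) = true := h
      cases hx : Nat.beq x b
      · rw [hx] at h; exact absurd h Bool.false_ne_true
      · rw [hx] at h
        cases hs : chkG nok cs lf sub (b :: K) none
        · rw [hs] at h; exact absurd h Bool.false_ne_true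
        · rw [hs] at h
          intro y hy
          rcases List.mem_cons.1 hy with rfl | hy
          · rw [Nat.eq_of_beq_eq_true hx]; exact ih1.1 _ hs
          · exact ih2.2 K L h y hy

theorem chk_sound {P : Par} {M : Set (Finset GolayPt)} {lf : ℕ → List ℕ → List ℕ → Bool}
    (hlf : ∀ σ c K, lf σ c K = true → Sem P M K) (t : Tr) (K : List ℕ)
    (h : chkG (nodeOk P) (cands P) lf t K none = true) : Sem P M K :=
  (chkG_sound (S := Sem P M) (fun _ _ _ => node_sound) hlf t).1 K h

/-- admissibility test for a coded permutation -/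
def admOk (P : Par) (σ : ℕ) : Bool :=
  okP σ && Nat.beq (imgM σ P.w) P.w && allLt 24 (fun i => !(bit P.z i) || Nat.beq (ap σ i) i)

theorem adm_of_admOk {P : Par} {σ : ℕ} (h : admOk P σ = true) :
    okP σ = true ∧ Adm P (permOf σ) := by
  simp only [admOk, Bool.and_eq_true, Nat.beq_eq, allLt_iff, Bool.or_eq_true, Bool.not_eq_true',
    bit_eq] at h
  obtain ⟨⟨h1, h2⟩, h3⟩ := h
  refine ⟨h1, by rw [permOf_smul h1, h2], fun p hp => ?_⟩
  rw [mem_ofMask] at hp
  rcases h3 _ (idx_lt p) with h | h
  · rw [hp] at h; exact absurd h (by simp)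
  · rw [permOf_apply h1, h, pt_idx]

theorem eqns_Engine : True := by
  have := @allL.eq_def
  have := @compat.eq_def
  have := @twinOk.eq_def
  have := @go.eq_def
  have := @cands.eq_def
  have := @nodeOk.eq_def
  have := @chkG.eq_def
  have := @admOk.eq_def
  trivial

end H17.Eng
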