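import Mathlib
import Cfsg.Agent.Base
import Cfsg.Agent.Lib.Design.Engine
import Cfsg.Agent.Lib.Design.Count

/-!
Uniqueness of the five Witt designs, in relative form on the 24 points.
-/

set_option autoImplicit false
set_option maxRecDepth 100000

namespace H17.Eng

open H15 Cfsg
open scoped Pointwise

theorem even_inter_symmDiff {X s t : Finset GolayPt} (hs : Even (X ∩ s).card)
    (ht : Even (X ∩ t).card) : Even (X ∩ symmDiff s t).card := by
  have h := card_symmDiff_add (X ∩ s) (X ∩ t)
  have e : X ∩ symmDiff s t = symmDiff (X ∩ s) (X ∩ t) := by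
    ext x; simp only [Finset.mem_inter, Finset.mem_symmDiff]; tauto
  rw [e, Nat.even_iff] at *
  omega

theorem even_inter_encL {X : Finset GolayPt} {L : List ℕ}
    (h : ∀ c ∈ L, Even (X ∩ ofMask c).card) (u : ℕ) : Even (X ∩ ofMask (encL L u)).card :=
  encL_induction (P := fun m => Even (X ∩ ofMask m).card) (by simp [ofMask_zero])
    (fun a b ha hb => by rw [ofMask_xor']; exact even_inter_symmDiff ha hb) L h u

theorem even_inter_of_basis {X : Finset GolayPt} (h : ∀ c ∈ basisL, Even (X ∩ ofMask c).card) :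
    ∀ s ∈ CodeSets, Even (X ∩ s).card :=
  codeSets_induction (P := fun s => Even (X ∩ s).card) (by simp)
    (fun _ _ => even_inter_symmDiff) h

/-- An 8-set meeting the basis evenly is an octad. -/
theorem octad_of_even {X : Finset GolayPt} (h8 : X.card = 8)
    (h : ∀ c ∈ basisL, Even (X ∩ ofMask c).card) : X ∈ octads :=
  w24_mem_of_even steiner_octads h8 fun c hc => by
    rw [Finset.inter_comm]; exact even_inter_of_basis h c hc.1

theorem not_even_six {X : Finset GolayPt} (h6 : X.card = 6)
    (h : ∀ c ∈ basisL, Even (X ∩ ofMask c).card) : False := by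
  have hlt : ∀ c ∈ thru octads ∅, (c ∩ X).card < 7 := fun c _ =>
    lt_of_le_of_lt (Finset.card_le_card Finset.inter_subset_right) (by omega)
  have hz : ∀ i, Odd i → nmeet (thru octads ∅) X i = 0 := by
    intro i hi
    rw [nmeet, Finset.card_eq_zero, Finset.filter_eq_empty_iff]
    intro c hc e
    have := even_inter_of_basis h c (mem_thru_empty.1 hc).1
    rw [Finset.inter_comm, e] at this
    exact (Nat.not_even_iff_odd.2 hi) this
  have m3 := moment (B := octads) (s := ∅) (X := X) (Finset.disjoint_empty_left _) 3 21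
    (fun u hu => w24_lam3 card_golayPt steiner_octads u (by simpa using hu))
  have m4 := moment (B := octads) (s := ∅) (X := X) (Finset.disjoint_empty_left _) 4 5
    (fun u hu => w24_lam4 card_golayPt steiner_octads u (by simpa using hu))
  have m5 := moment (B := octads) (s := ∅) (X := X) (Finset.disjoint_empty_left _) 5 1
    (fun u hu => card_thru_eq_one steiner_octads (by simpa using hu))
  rw [sum_nmeet _ X 7 (fun i => Nat.choose i 3) hlt, h6] at m3
  rw [sum_nmeet _ X 7 (fun i => Nat.choose i 4) hlt, h6] at m4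
  rw [sum_nmeet _ X 7 (fun i => Nat.choose i 5) hlt, h6] at m5
  have h3 := hz 3 (by decide)
  have h5 := hz 5 (by decide)
  simp only [Finset.sum_range_succ, Finset.range_zero, Finset.sum_empty, Nat.choose] at m3 m4 m5
  omega

/-- leaf test for the designs of Golay type -/
def lfG (P : Par) (Hs : List ℕ) (σ : ℕ) (c K : List ℕ) : Bool :=
  admOk P σ && (c.map (encL (K.map (imgM σ))) == Hs)

theorem lfG_sound {P : Par} {Hs : List ℕ} {M : Set (Finset GolayPt)}
    (hev : ∀ i, P.okm.testBit i = true → Even i)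
    (hM : ∀ X, ofMask P.z ⊆ X → X.card = P.k → (∀ h ∈ Hs, Even (X ∩ ofMask h).card) → X ∈ M)
    (σ : ℕ) (c K : List ℕ) (h : lfG P Hs σ c K = true) : Sem P M K := by
  rw [lfG, Bool.and_eq_true, beq_iff_eq] at h
  obtain ⟨h1, h2⟩ := adm_of_admOk h.1
  intro B hB hK
  refine ⟨permOf σ, h2, fun b hb => hM _ ?_ (by rw [card_smul, hB.card b hb]) ?_⟩
  · rw [← smul_eq_of_fix h2.2]
    exact (smul_subset_smul_iff _ _ _).2 (hB.sub b hb).1
  · intro x hx
    rw [← h.2, List.mem_map] at hx
    obtain ⟨u, -, rfl⟩ := hx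
    apply even_inter_encL
    intro y hy
    obtain ⟨m, hm, rfl⟩ := List.mem_map.1 hy
    rw [← permOf_smul h1, ← smul_inter, card_smul]
    exact hev _ (hB.ok b hb _ (hK m hm))

/-- membership test in a list of numbers -/
def memL (x : ℕ) (L : List ℕ) : Bool :=
  List.rec false (fun y _ ih => Bool.rec ih true (Nat.beq x y)) L

theorem memL_iff {x : ℕ} {L : List ℕ} : memL x L = true ↔ x ∈ L := by
  induction L with
  | nil => simp [memL]
  | cons y L ih =>
    show @Bool.rec (fun _ => Bool) (memL x L) true (Nat.beq x y) = true ↔ _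
    cases h : Nat.beq x y
    · have : x ≠ y := Nat.ne_of_beq_eq_false h
      simp [ih, this]
    · simp [Nat.eq_of_beq_eq_true h]

/-- map with evaluation of the entries -/
def mapF (f : ℕ → ℕ) (K : List ℕ) (k : List ℕ → Bool) : Bool :=
  List.rec (motive := fun _ => (List ℕ → Bool) → Bool) (fun k => k [])
    (fun x _ ih k => force (f x) fun y => ih fun L => k (y :: L)) K k

theorem mapF_eq (f : ℕ → ℕ) (K : List ℕ) (k : List ℕ → Bool) :
    mapF f K k = k (K.map f) := by
  induction K generalizing k with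
  | nil => rfl
  | cons x K ih =>
    show force (f x) (fun y => mapF f K fun L => k (y :: L)) = _
    rw [force_eq, ih]; rfl

/-- leaf test for complete block lists -/
def lfF (P : Par) (L : List ℕ) (σ : ℕ) (_ K : List ℕ) : Bool :=
  admOk P σ && mapF (imgM σ) K fun K' => allL (fun m => memL m K') L

theorem lfF_sound {P : Par} {L : List ℕ} {M : Set (Finset GolayPt)} (hk : 5 ≤ P.k)
    (hz : wt P.z ≤ 5) (hok : ∀ i, P.okm.testBit i = true → 5 ≤ i → i = P.k)
    (hL : ∀ T, ofMask P.z ⊆ T → T ⊆ ofMask P.w → T.card = 5 → ∃ m ∈ L, T ⊆ ofMask m)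
    (hM : ∀ m ∈ L, ofMask m ∈ M)
    (σ : ℕ) (c K : List ℕ) (h : lfF P L σ c K = true) : Sem P M K := by
  rw [lfF, Bool.and_eq_true, mapF_eq, allL_iff] at h
  obtain ⟨h1, h2⟩ := adm_of_admOk h.1
  intro B hB hK
  refine ⟨permOf σ, h2, fun b hb => ?_⟩
  have hzb : ofMask P.z ⊆ permOf σ • b := by
    rw [← smul_eq_of_fix h2.2]
    exact (smul_subset_smul_iff _ _ _).2 (hB.sub b hb).1
  have hbw : permOf σ • b ⊆ ofMask P.w := by
    rw [← h2.1]
    exact (smul_subset_smul_iff _ _ _).2 (hB.sub b hb).2
  obtain ⟨T, hT1, hT2, hT3⟩ := Finset.exists_subsuperset_card_eq (n := 5) hzb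
    (by rw [card_ofMask]; exact hz) (by rw [card_smul, hB.card b hb]; exact hk)
  obtain ⟨m, hm, hTm⟩ := hL T hT1 (hT2.trans hbw) hT3
  obtain ⟨c, hc, rfl⟩ := List.mem_map.1 (memL_iff.1 (h.2 m hm))
  have h5 : 5 ≤ (b ∩ ofMask c).card := by
    rw [← card_smul (permOf σ), smul_inter, permOf_smul h1, ← hT3]
    exact Finset.card_le_card (Finset.subset_inter hT2 hTm)
  have h6 := hok _ (hB.ok b hb _ (hK c hc)) h5
  have e1 : b ∩ ofMask c = b :=
    Finset.eq_of_subset_of_card_le Finset.inter_subset_left (by rw [h6, hB.card b hb])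
  have e2 : b ∩ ofMask c = ofMask c :=
    Finset.eq_of_subset_of_card_le Finset.inter_subset_right (by rw [h6, hB.card _ (hK c hc)])
  rw [← e1, e2, permOf_smul h1]
  exact hM _ hm

/-! ### The five parameter sets -/

/-- S(5,8,24) -/
def P24 : Par := ⟨0, 16777215, 8, 277⟩
/-- S(4,7,23) -/
def P23 : Par := ⟨8388608, 16777215, 8, 277⟩
/-- S(3,6,22) -/
def P22 : Par := ⟨12582912, 16777215, 8, 277⟩
/-- S(5,6,12) -/
def P12 : Par := ⟨0, 11472927, 6, 95⟩
/-- S(4,5,11) -/
def P11 : Par := ⟨8388608, 11472927, 6, 95⟩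

theorem even_of_277 (i : ℕ) (h : (277 : ℕ).testBit i = true) : Even i := by
  have : i < 9 := by
    by_contra hc
    have h9 : 9 ≤ i := by omega
    have h2 : 2 ^ 9 ≤ 2 ^ i := Nat.pow_le_pow_right (by norm_num) h9
    rw [Nat.testBit_eq_false_of_lt (by omega)] at h
    exact absurd h (by simp)
  revert h
  interval_cases i <;> decide

theorem six_of_95 (i : ℕ) (h : (95 : ℕ).testBit i = true) (h5 : 5 ≤ i) : i = 6 := by
  have : i < 7 := by
    by_contra hc
    have h7 : 7 ≤ i := by omega
    have h2 : 2 ^ 7 ≤ 2 ^ i := Nat.pow_le_pow_right (by norm_num) h7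
    rw [Nat.testBit_eq_false_of_lt (by omega)] at h
    exact absurd h (by simp)
  revert h
  interval_cases i <;> decide

/-- eleven independent octads through the points 22 and 23 -/
def H11 : List ℕ := [13062145, 13938692, 14716939, 13811730, 14176296, 15515712, 14254209, 15274244, 15073798, 16262146, 14919680]

/-- an octad through 23 and not through 22 -/
def h12 : ℕ := 9347075

theorem basis_of_H11 : ∀ b ∈ basisL, ∃ u ∈ ([2, 3, 4, 9, 19, 41, 64, 130, 260, 519, 1027, 2048] : List ℕ),
    b = encL (h12 :: H11) u := by decide +kernel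

theorem H11_spec : ∀ h ∈ H11, isOctad h = true ∧ Nat.land 12582912 h = 12582912 := by
  decide +kernel

theorem even_basis_of_H11 {X : Finset GolayPt} (h : ∀ c ∈ H11, Even (X ∩ ofMask c).card)
    (h' : Even (X ∩ ofMask h12).card) : ∀ c ∈ basisL, Even (X ∩ ofMask c).card := by
  intro c hc
  obtain ⟨u, -, rfl⟩ := basis_of_H11 c hc
  apply even_inter_encL
  intro x hx
  rcases List.mem_cons.1 hx with rfl | hx
  exacts [h', h x hx]

theorem wt_z22 : wt 12582912 = 2 := by decide +kernel

theorem wt_z22_h12 : wt (Nat.land 12582912 h12) = 1 := by decide +kernel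

theorem octad_of_H11 (X : Finset GolayPt) (hz : ofMask 12582912 ⊆ X) (h8 : X.card = 8)
    (h : ∀ c ∈ H11, Even (X ∩ ofMask c).card) : X ∈ octads := by
  by_cases h' : Even (X ∩ ofMask h12).card
  · exact octad_of_even h8 (even_basis_of_H11 h h')
  exfalso
  have hc : ∀ s : Finset GolayPt, ((X \ ofMask 12582912) ∩ s).card + (ofMask 12582912 ∩ s).card =
      (X ∩ s).card := by
    intro s
    rw [← Finset.card_union_of_disjoint, ← Finset.union_inter_distrib_right,
      Finset.sdiff_union_of_subset hz]
    exact Finset.disjoint_of_subset_left Finset.inter_subset_left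
      (Finset.disjoint_of_subset_right Finset.inter_subset_left Finset.sdiff_disjoint)
  refine not_even_six (X := X \ ofMask 12582912) ?_ (even_basis_of_H11 ?_ ?_)
  · rw [Finset.card_sdiff_of_subset hz, h8, card_ofMask, wt_z22]
  · intro c hcm
    have h1 := hc (ofMask c)
    have h2 := h c hcm
    rw [← ofMask_land, (H11_spec c hcm).2, card_ofMask, wt_z22] at h1
    rw [Nat.even_iff] at h2 ⊢
    omega
  · have h1 := hc (ofMask h12)
    rw [← ofMask_land, card_ofMask, wt_z22_h12] at h1
    rw [Nat.even_iff] at h' ⊢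
    omega

/-- the 132 hexads on the dodecad `dod1` -/
def hexL : List ℕ := [4127, 196638, 200715, 200725, 327709, 331790, 331795, 393243, 397325, 397334, 458759, 462872, 589839, 593942, 593945, 655389, 659463, 659482, 720915, 725004, 786455, 790539, 790556, 851994, 856069, 917518, 921617, 983049, 983060, 987138, 2162715, 2166791, 2166812, 2228247, 2232334, 2232345, 2293773, 2297874, 2359311, 2363413, 2363418, 2424854, 2428937, 2490396, 2494467, 2555914, 2555921, 2560004, 2621470, 2625549, 2625555, 2686997, 2691082, 2752523, 2756628, 2818054, 2818072, 2822145, 2883609, 2887686, 2949123, 2949132, 2953232, 3014661, 3014674, 3018760, 8454167, 8458253, 8458266, 8519695, 8523795, 8523804, 8585241, 8589318, 8650782, 8654855, 8654873, 8716299, 8720404, 8781845, 8785930, 8847372, 8847378, 8851457, 8912923, 8917006, 8917013, 8978460, 8982531, 9043990, 9048073, 9109509, 9109514, 9113616, 9175053, 9179154, 9240582, 9240593, 9244680, 9306115, 9306136, 9310212, 10485789, 10489867, 10489878, 10551310, 10555409, 10616858,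 10620933, 10682371, 10682388, 10686472, 10747923, 10752012, 10813445, 10813464, 10817538, 10878982, 10878985, 10883088, 11010055, 11014168, 11075593, 11075602, 11079684, 11141132, 11141137, 11145218, 11272202, 11272212, 11276289, 11468800]

/-- the 66 hexads through the point 23 -/
def hexL11 : List ℕ := [8454167, 8458253, 8458266, 8519695, 8523795, 8523804, 8585241, 8589318, 8650782, 8654855, 8654873, 8716299, 8720404, 8781845, 8785930, 8847372, 8847378, 8851457, 8912923, 8917006, 8917013, 8978460, 8982531, 9043990, 9048073, 9109509, 9109514, 9113616, 9175053, 9179154, 9240582, 9240593, 9244680, 9306115, 9306136, 9310212, 10485789, 10489867, 10489878, 10551310, 10555409, 10616858, 10620933, 10682371, 10682388, 10686472, 10747923, 10752012, 10813445, 10813464, 10817538, 10878982, 10878985, 10883088, 11010055, 11014168, 11075593, 11075602, 11079684, 11141132, 11141137, 11145218, 11272202, 11272212, 11276289, 11468800]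

theorem hexL_check : allLt2 64 64 (fun u => force (cw u) fun c => force (Nat.land c dod1) fun h =>
    !(Nat.beq (wt c) 8 && Nat.beq (wt h) 6) || memL h hexL) = true := by decide +kernel

theorem hexL_check' : allL (fun h => Nat.beq (wt h) 6 && anyLt 24 fun i => anyLt i fun j =>
    force (Nat.lor h (Nat.lor (Nat.shiftLeft 1 i) (Nat.shiftLeft 1 j))) fun o =>
      isOctad o && Nat.beq (Nat.land o dod1) h) hexL = true := by decide +kernel

theorem mem_hexadsOn_iff {X : Finset GolayPt} :
    X ∈ hexadsOn (ofMask dod1) ↔ ∃ m ∈ hexL, ofMask m = X := by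
  constructor
  · rintro ⟨h6, o, ho, rfl⟩
    obtain ⟨u, hu, rfl⟩ := exists_cw_of_mem_codeSets ho.1
    have := allLt2_iff.1 hexL_check u hu
    have h8 := ho.2
    rw [← ofMask_land, card_ofMask] at h6
    rw [card_ofMask] at h8
    rw [force_eq, force_eq, h6, h8] at this
    exact ⟨_, memL_iff.1 this, ofMask_land _ _⟩
  · rintro ⟨m, hm, rfl⟩
    have := (allL_iff _ _).1 hexL_check' m hm
    simp only [Bool.and_eq_true, Nat.beq_eq, anyLt_iff, force_eq] at this
    obtain ⟨h6, i, -, j, -, ho, hd⟩ := this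
    exact ⟨by rw [card_ofMask, h6], _, ofMask_mem_octads ho, by rw [← ofMask_land, hd]⟩

theorem exists_hexad {d : Finset GolayPt} (hd : d ∈ dodecads) {T : Finset GolayPt} (hT : T ⊆ d)
    (h5 : T.card = 5) : ∃ X ∈ hexadsOn d, T ⊆ X := by
  obtain ⟨o, ho, hTo⟩ := exists_octad_superset h5.le
  have h := Finset.card_le_card (Finset.subset_inter hTo hT)
  refine ⟨o ∩ d, ⟨?_, o, ho, rfl⟩, Finset.subset_inter hTo hT⟩
  rcases card_inter_octad_dodecad ho hd with h' | h' | h' <;> omega

theorem hexad_eq_of_five {d X Y : Finset GolayPt} (hX : X ∈ hexadsOn d) (hY : Y ∈ hexadsOn d)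
    (h : 5 ≤ (X ∩ Y).card) : X = Y := by
  obtain ⟨-, o, ho, rfl⟩ := hX
  obtain ⟨-, o', ho', rfl⟩ := hY
  rw [octad_eq_of_five ho ho' (h.trans (Finset.card_le_card
    (Finset.inter_subset_inter Finset.inter_subset_left Finset.inter_subset_left)))]

theorem hexL11_spec : (∀ m ∈ hexL11, m ∈ hexL) ∧ ∀ m ∈ hexL, m.testBit 23 = true → m ∈ hexL11 := by
  decide +kernel

theorem eqns_Witt : True := by
  have := @lfG.eq_def
  have := @memL.eq_def
  have := @mapF.eq_def
  have := @lfF.eq_def
  trivial

end H17.Eng
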