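import Mathlib
import Cfsg.Agent.Base
import Cfsg.Agent.Lib.Design.Witt

/-!
The search trees for the five Witt designs.
-/

set_option autoImplicit false
set_option maxRecDepth 100000

namespace H17.Eng

open H15 Cfsg
open scoped Pointwise

/-- search tree -/
noncomputable def tr24 : Tr := (.node 2134273 [(1,2),(2,3),(3,4),(4,5),(5,6),(6,7),(7,9),(9,10),(10,11),(11,13),(13,14),(14,16),(16,17),(17,18),(18,19),(19,20),(20,22),(22,23)] (.cons 2134287 (.node 20745 [(1,2),(2,15),(15,21),(4,5),(5,6),(6,7),(7,9),(9,10),(10,11),(11,13),(13,16),(16,17),(17,18),(18,19),(19,20),(20,22),(22,23)] (.cons 20857 (.node 2097477 [(1,15),(3,12),(4,5),(5,14),(7,9),(9,10),(10,11),(11,13),(13,16),(16,17),(17,18),(18,19),(19,20),(20,22),(22,23)] (.cons 2098133 (.node 1048857 [(1,15),(2,21),(5,14),(7,9),(10,11),(11,13),(13,16),(16,17),(17,18),(18,19),(19,22),(22,23)] (.cons 1050011 (.node 32915 [(2,21),(5,14),(10,20),(11,13),(13,16),(16,17),(17,18),(18,19),(19,22),(22,23)] (.cons 37555 (.node 262706 [(2,21),(10,20),(11,13),(13,16),(16,17),(17,19),(19,22),(22,23)]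 (.cons 262974 (.node 2103426 [(10,20),(13,16),(16,17),(17,19),(19,22),(22,23)] (.cons 2414722 (.node 525573 [(13,16),(16,17),(17,22),(22,23)] .nil) .nil)) (.cons 264050 (.node 524377 [(2,21),(11,13),(13,16),(16,17),(17,22),(22,23)] .nil) (.cons 279158 (.node 8388707 [(10,20),(11,13),(13,16),(16,17),(17,19),(19,22)] (.cons 8388847 (.node 2523168 [(10,20),(11,13),(13,16),(16,19),(19,22)] .nil) .nil)) (.cons 280122 (.node 18712 [(2,21),(13,16),(16,17),(17,19),(19,22),(22,23)] .nil) .nil))))) (.cons 39123 (.node 35393 [(2,21),(5,14),(10,20),(13,16),(16,17),(17,18),(18,19),(19,22),(22,23)] (.cons 35437 (.node 2639888 [(10,20),(13,16),(16,17),(17,18),(18,22),(22,23)] (.cons 2640147 (.node 279688 [(13,16),(16,17),(17,22),(22,23)] (.cons 288394 (.node 7340548 [(13,18),(16,17),(17,23)] .nil) .nil)) .nil)) (.cons 36681 (.node 9471040 [(2,21),(5,14),(13,16),(16,17),(17,18),(18,19),(19,22)] .nil) .nil))) (.cons 43159 (.node 33164 [(5,14),(10,20),(11,13),(16,17),(17,18),(18,19),(19,22),(22,23)] (.cons 36748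 (.node 9092 [(5,14),(16,17),(17,18),(18,19),(19,22),(22,23)] (.cons 1061766 (.node 1090050 [(5,14),(16,17),(17,18),(18,19),(19,22),(22,23)] .nil) .nil)) (.cons 98748 (.node 2162836 [(10,20),(11,13),(17,18),(18,19),(19,22),(22,23)] (.cons 2167958 (.node 41112 [(17,18),(18,19),(19,22),(22,23)] (.cons 1482904 (.node 2229888 [(19,22),(22,23)] (.cons 6948484 (.node 2228756 [(19,22)] .nil) .nil)) .nil)) (.cons 2312340 (.node 5316 [(18,19),(19,22),(22,23)] (.cons 267724 (.node 1319938 [(19,22),(22,23)] (.cons 1844358 (.node 65876 [(22,23)] (.cons 4538708 (.node 181376 [] (.cons 181390 (.node 9179200 [] (.cons 9211977 (.leaf 397845216666527425231010508992251936 [4044, 640, 2004, 812, 2584, 78, 36, 3822, 436, 3441, 770, 1400]) .nil)) .nil)) .nil)) .nil)) (.cons 792260 (.node 2130368 [(18,19),(22,23)] (.cons 2396640 (.node 12984320 [] (.cons 15147012 (.node 6465 [(22,23)] (.cons 530883 (.node 1109 [(22,23)] (.cons 4199511 (.leaf 756101987754718852626967034255738912 [3263, 640, 3629, 95, 146, 2117, 2252, 1765,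 2125, 1648, 2170, 4082]) .nil)) .nil)) .nil)) .nil)) .nil))) .nil))) .nil))) (.cons 49335 (.node 2101770 [(5,14),(10,20),(11,13),(13,16),(16,17),(17,18),(18,19),(19,22),(22,23)] (.cons 2101946 (.node 1052691 [(11,13),(13,16),(16,17),(17,18),(18,19),(19,22),(22,23)] (.cons 1086035 (.node 1574960 [(13,16),(16,17),(17,18),(18,22),(22,23)] .nil) .nil)) (.cons 2102874 (.node 131099 [(5,14),(11,13),(13,16),(16,18),(18,19),(19,22),(22,23)] (.cons 133215 (.node 2229536 [(13,16),(16,18),(18,19),(19,22),(22,23)] (.cons 2246496 (.node 2687024 [(13,18),(18,22),(22,23)] (.cons 2695348 (.node 2105876 [(16,19),(18,22),(22,23)] .nil) .nil)) .nil)) .nil)) .nil))) .nil))))) (.cons 1051933 (.node 2134081 [(5,14),(7,9),(10,11),(11,20),(13,16),(16,17),(17,18),(18,19),(19,22),(22,23)] (.cons 2135265 (.node 2101633 [(11,20),(13,16),(16,17),(17,18),(18,19),(19,22),(22,23)] (.cons 2191745 (.node 33830 [(11,20),(13,16),(17,18),(18,19),(19,22),(22,23)] (.cons 44071 (.node 1083656 [(17,18),(18,19),(19,22),(22,23)] (.cons 3574024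 (.node 4980928 [] (.cons 13516992 (.node 5193 [(17,18),(19,22),(22,23)] (.cons 531531 (.node 8327 [(17,18),(22,23)] (.cons 5251463 (.node 598148 [(17,18)] (.cons 729540 (.leaf 815463729029870452862828521480882208 [3732, 3743, 3538, 1486, 2745, 3347, 2287, 8, 3625, 792, 3779, 3040]) .nil)) .nil)) .nil)) .nil)) .nil)) (.cons 46630 (.node 2130008 [(11,20),(17,18),(18,19),(19,22),(22,23)] (.cons 2262360 (.node 229696 [(11,20),(18,19),(19,22),(22,23)] (.cons 230214 (.node 1057072 [(18,19),(19,22),(22,23)] .nil) .nil)) .nil)) (.cons 2278438 (.node 3844 [(13,16),(18,19),(19,22),(22,23)] (.cons 274244 (.node 394512 [(19,22),(22,23)] .nil) .nil)) .nil)))) (.cons 3168641 (.node 2113610 [(11,20),(13,16),(16,17),(17,18),(18,19),(19,22),(22,23)] (.cons 2121931 (.node 1077256 [(16,17),(17,18),(18,19),(19,22),(22,23)] (.cons 1142797 (.node 4229130 [(17,18),(18,19),(19,23)] (.cons 4626442 (.node 8389026 [(17,18),(18,22)] .nil) .nil)) .nil)) .nil)) .nil))) (.cons 2137169 (.node 2099465 [(5,14),(7,9),(13,16),(16,17),(17,18),(18,19),(19,22),(22,23)]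 (.cons 2173257 (.node 2114880 [(7,9),(13,16),(17,18),(18,19),(19,22),(22,23)] (.cons 3163459 (.node 2114584 [(7,9),(13,16),(17,18),(18,19),(19,22),(22,23)] .nil) (.cons 3171664 (.node 530689 [(7,9),(17,18),(18,22),(22,23)] (.cons 661829 (.node 1589251 [(7,9),(18,22),(22,23)] .nil) .nil)) .nil))) .nil)) (.cons 2207825 (.node 117 [(7,9),(10,11),(11,20),(13,16),(17,18),(18,19),(19,22),(22,23)] (.cons 33911 (.node 1065240 [(7,9),(13,16),(17,18),(18,19),(19,22),(22,23)] (.cons 3162522 (.node 2294785 [(18,19),(19,22),(22,23)] (.cons 2581505 (.node 9506 [(17,18),(19,22),(22,23)] .nil) .nil)) .nil)) (.cons 140405 (.node 307 [(7,9),(11,20),(18,19),(19,22),(22,23)] (.cons 786743 (.node 2195600 [(11,20),(18,19),(22,23)] (.cons 2197660 (.node 2367568 [(22,23)] (.cons 6562160 (.node 8421697 [] (.cons 14729537 (.node 4198696 [] (.cons 14815528 (.node 2105369 [] .nil) .nil)) .nil)) .nil)) (.cons 2198192 (.node 139848 [(18,19),(22,23)] (.cons 402124 (.node 4197409 [(7,9)] (.cons 12586089 (.node 164106 [(7,9),(22,23)]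 (.cons 4366730 (.node 51720 [] (.cons 313960 (.leaf 483514009299717225461720577279625248 [856, 3673, 3667, 1921, 3851, 2970, 1153, 2522, 3283, 2019, 2203, 3014]) .nil)) .nil)) .nil)) .nil)) .nil))) (.cons 2107699 (.node 2232353 [(7,9),(18,19),(19,22),(22,23)] (.cons 2502697 (.node 1114137 [(7,9),(19,22),(22,23)] (.cons 1646649 (.node 2150408 [(7,9),(22,23)] (.cons 6475800 (.node 6291722 [(7,9)] (.cons 14819594 (.node 8438788 [(7,9)] (.cons 8447140 (.leaf 808964715001473743479845581299484704 [3415, 2354, 3483, 54, 217, 3535, 2085, 3482, 42, 2254, 1756, 291]) .nil)) .nil)) .nil)) .nil)) .nil)) (.cons 2164019 (.node 4231177 [(7,9),(11,20),(18,19),(19,23)] (.cons 4495385 (.node 9364 [(18,22),(19,23)] (.cons 534172 (.node 558656 [(18,22)] (.cons 821184 (.node 540753 [(7,9)] .nil) .nil)) .nil)) .nil)) .nil)))) .nil))) .nil)))) .nil))) .nil)) .nil)) .nil))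

/-- search tree -/
noncomputable def tr23 : Tr := (.node 8388892 [(0,1),(1,5),(5,6),(6,7),(7,9),(9,10),(10,11),(11,12),(12,13),(13,14),(14,15),(15,16),(16,17),(17,18),(18,19),(19,20),(20,21),(21,22)] (.cons 8388927 (.node 8683568 [(0,1),(1,2),(2,3),(3,8),(6,7),(7,9),(9,10),(10,11),(11,12),(12,13),(13,14),(14,16),(16,17),(17,19),(19,20),(20,21),(21,22)] (.cons 8683761 (.node 10485921 [(1,2),(2,3),(3,8),(6,15),(15,18),(9,10),(10,11),(11,12),(12,13),(13,14),(14,16),(16,17),(17,19),(19,20),(20,22)] (.cons 10487459 (.node 10485906 [(0,5),(2,3),(3,8),(6,15),(15,18),(9,10),(11,12),(12,13),(13,14),(14,16),(16,17),(17,19),(19,20),(20,22)] (.cons 10488022 (.node 11534480 [(0,5),(3,8),(9,10),(12,13),(13,14),(14,16),(16,17),(17,19),(19,22),(15,18)] (.cons 11538585 (.node 10486064 [(9,10),(12,20),(13,14),(14,16),(16,17),(17,19),(19,22),(15,18)] (.cons 10490736 (.node 9437520 [(13,14),(14,16),(16,17),(17,19),(19,22),(15,18)] (.cons 9447761 (.node 9438368 [(14,16),(16,17),(17,19),(19,22),(15,18)] (.cons 9444576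 (.node 8724484 [(14,17),(17,19),(19,22)] (.cons 8757292 (.node 8405636 [(15,18),(17,19),(19,22)] (.cons 8539780 (.node 8406276 [(15,18),(19,22)] (.cons 8963340 (.node 10486146 [] .nil) .nil)) .nil)) .nil)) .nil)) .nil)) (.cons 10510768 (.node 8392753 [(9,10),(13,14),(15,18),(16,17),(17,19),(19,22)] (.cons 8466993 (.node 8396968 [(15,18),(17,19),(19,22)] (.cons 8401130 (.node 8389288 [(15,18),(17,19),(19,22)] (.cons 8522424 (.node 8392969 [(15,18),(19,22)] (.cons 8491337 (.node 8541184 [(19,22)] (.cons 9327620 (.node 12976136 [] (.cons 13013128 (.leaf 970486029309884078388387451273054240 [2404, 2686, 1562, 3392, 3364, 64, 782, 2570, 282, 3336, 3822, 2627]) .nil)) .nil)) .nil)) .nil)) (.cons 9052329 (.node 12845062 [(17,19)] (.cons 13008918 (.node 9437888 [(15,18)] (.cons 11568064 (.node 8914000 [] (.cons 13372496 (.node 10490370 [] (.cons 10621714 (.leaf 975674170484586003090753782600009760 [3098, 215, 2509, 3392, 2138, 64, 2072, 1683, 3789, 1470, 1801, 2386]) .nil)) .nil)) .nil)) .nil)) .nil)))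 .nil)) .nil))) (.cons 11571856 (.node 10485809 [(3,8),(12,20),(13,14),(14,16),(16,17),(17,19),(19,22)] (.cons 10500145 (.node 8650883 [(3,8),(14,16),(16,17),(17,19),(19,22)] (.cons 8661131 (.node 8659201 [(14,16),(16,17),(17,19),(19,22)] (.cons 8741137 (.node 8717316 [(17,19),(19,22)] (.cons 8868868 (.node 8519718 [(14,16),(19,22)] (.cons 9306278 (.node 9568328 [(14,16)] (.cons 9589320 (.node 8422440 [] (.cons 12618793 (.leaf 965288784409728769018326554567084064 [604, 1018, 1190, 390, 2778, 3206, 668, 125, 934, 1880, 3786, 3738]) .nil)) .nil)) .nil)) .nil)) .nil)) (.cons 8732807 (.node 8421507 [(3,8),(14,16),(17,19),(19,22)] (.cons 8427659 (.node 8393376 [(14,16),(17,19),(19,22)] (.cons 8526560 (.node 10486794 [(14,16),(19,22)] (.cons 11015194 (.node 9437600 [(14,16)] (.cons 9458081 (.node 8422529 [] (.cons 13730945 (.leaf 969186608564645213973822514029234208 [2840, 3332, 796, 1548, 1044, 2828, 426, 1162, 1052, 3984, 1315, 84]) .nil)) .nil)) .nil)) .nil)) .nil)) .nil))) .nil)) .nil))) .nil)) .nil))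 .nil)) .nil))

/-- search tree -/
noncomputable def tr22 : Tr := (.node 12583105 [(1,2),(2,3),(3,4),(4,5),(5,8),(8,9),(9,10),(10,11),(11,12),(12,13),(13,14),(14,15),(15,16),(16,17),(17,18),(18,19),(19,20),(20,21)] (.cons 12583119 (.node 13107332 [(0,1),(1,3),(3,6),(4,5),(5,8),(8,9),(9,10),(10,11),(11,12),(12,13),(13,14),(14,15),(15,16),(16,17),(17,18),(18,20),(20,21)] (.cons 13107636 (.node 12582994 [(0,3),(2,7),(5,8),(8,19),(9,10),(10,11),(11,12),(12,13),(13,14),(14,15),(15,16),(16,17),(17,18),(18,20),(20,21)] (.cons 12584562 (.node 12583009 [(2,7),(8,19),(9,10),(11,12),(12,13),(13,14),(14,15),(15,16),(16,17),(17,18),(18,20),(20,21)] (.cons 12589409 (.node 12583202 [(2,7),(9,10),(11,12),(13,14),(14,15),(15,16),(16,17),(17,18),(18,20),(20,21)] (.cons 12607786 (.node 12582968 [(2,7),(9,10),(11,12),(13,14),(15,16),(16,17),(17,18),(18,20),(20,21)] (.cons 12681273 (.node 12591152 [(2,7),(9,10),(11,12),(15,16),(17,18),(18,20),(20,21)] (.cons 12986416 (.node 12591424 [(2,7),(9,10),(15,16),(17,18),(20,21)]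 (.cons 12723012 (.node 13107296 [(15,16),(20,21)] (.cons 14286952 (.node 12716040 [(15,16)] (.cons 12749192 (.node 12587266 [] (.cons 14685058 (.leaf 984770786662058512706639380012468256 [1306, 1693, 1540, 1927, 1667, 542, 1703, 8, 280, 1, 844]) .nil)) .nil)) .nil)) .nil)) .nil)) .nil)) .nil)) .nil)) .nil)) .nil)) .nil))

/-- search tree -/
noncomputable def tr12 : Tr := (.node 524315 [(2,12),(12,16),(16,17),(17,18),(18,21),(21,23)] (.cons 524319 (.node 655381 [(1,3),(12,16),(16,18),(18,21),(21,23)] (.cons 659477 (.node 528409 [(16,18),(18,21),(21,23)] (.cons 593945 (.node 655385 [(18,21),(21,23)] (.cons 917529 (.node 2621465 [] (.cons 11010073 (.node 659465 [(21,23)] (.cons 659467 (.node 659480 [(21,23)] (.cons 2756632 (.node 135193 [] (.cons 8523801 (.node 2752521 [] (.cons 2752525 (.node 9043977 [] (.cons 9109513 (.node 8912907 [] (.cons 9175051 (.node 8917001 [] (.cons 8917005 (.node 528412 [] (.cons 790556 (.node 4125 [] (.cons 2101277 (.node 266265 [] (.cons 266267 (.node 2359321 [] (.cons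 2424857 (.node 8650777 [] (.cons 8650781 (.node 8781833 [] (.cons 10878985 (.node 2363401 [] (.cons 2887689 (.node 2359309 [] (.cons 2359311 (.node 393227 [] (.cons 458763 (.node 2359324 [] (.cons 2490396 (.node 397321 [] (.cons 397325 (.node 8654857 [] (.cons 8720393 (.node 331800 [] (.cons 462872 (.node 921608 [] (.cons 9310216 (.node 9179137 [] (.cons 9179153 (.node 2363409 [] (.cons 2494481 (.node 135194 [] (.cons 135198 (.node 8847368 [] (.cons 8847372 (.node 8847361 [] (.cons 8847377 (.node 2490371 [] (.cons 3014659 (.node 2883601 [] (.cons 2883605 (.node 2555905 [] (.cons 2555909 (.node 2428929 [] (.cons 2428931 (.node 3014664 [] (.cons 3080200 (.node 2949121 [] (.cons 11337729 (.node 10813448 [] (.cons 10813450 (.node 2359315 [] (.cons 10747923 (.node 10616849 [] (.cons 10616853 (.node 10747928 [] (.cons 10752024 (.node 10747916 [] (.cons 11272204 (.node 11075592 [] (.cons 11079688 (.node 2228231 [] (.cons 2232327 (.node 8917002 [] (.cons 8917018 (.node 9048080 [] (.cons 9113616 (.node 10620944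 [] (.cons 10620946 (.node 2756610 [] (.cons 2822146 (.node 659474 [] (.cons 921618 (.node 69658 [] (.cons 2166810 (.node 2293770 [] (.cons 2293774 (.node 2228246 [] (.cons 2752534 (.node 11010066 [] (.cons 11075602 (.node 2883602 [] (.cons 2883610 (.node 327706 [] (.cons 327710 (.node 8912918 [] (.cons 9175062 (.node 266262 [] (.cons 2363414 (.node 2428944 [] (.cons 2953232 (.node 327701 [] (.cons 331797 (.node 8654868 [] (.cons 8785940 (.node 790533 [] (.cons 790535 (.node 851971 [] (.cons 851987 (.node 720899 [] (.cons 720903 (.node 8978435 [] (.cons 8982531 (.node 9179138 [] (.cons 11276290 (.node 2625542 [] (.cons 2625550 (.node 10489866 [] (.cons 10489867 (.node 11014145 [] (.cons 11145217 (.node 10682370 [] (.cons 10682371 (.node 2162707 [] (.cons 2162711 (.node 10485782 [] (.cons 10485790 (.node 10485767 [] (.cons 11010055 (.node 2232332 [] (.cons 10620940 (.node 9306114 [] (.cons 9371650 (.node 8851456 [] (.cons 10948608 (.node 2625539 [] (.cons 2625555 (.node 8912915 [] (.cons 9043987 (.node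 593925 [] (.cons 2691077 (.node 589838 [] (.cons 8978446 (.node 9043974 [] (.cons 9048070 (.node 8392718 [] (.cons 8654862 (.node 8589316 [] (.cons 8589317 (.node 2363402 [] (.cons 2494474 (.node 2232329 [] (.cons 2297865 (.node 458758 [] (.cons 462854 (.node 4119 [] (.cons 8392727 (.node 2949124 [] (.cons 2949126 (.node 2428932 [] (.cons 2428940 (.node 8388623 [] (.cons 8519695 (.node 8781830 [] (.cons 10878982 (.node 69645 [] (.cons 69647 (.node 131095 [] (.cons 393239 (.node 2097179 [] (.cons 2228251 (.node 8716291 [] (.cons 8716295 (.node 458770 [] (.cons 2555922 (.node 462849 [] (.cons 987137 (.node 11010058 [] (.cons 11141130 (.node 589850 [] (.cons 720922 (.node 196636 [] (.cons 196637 (.node 9043988 [] (.cons 9043996 (.node 8781848 [] (.cons 8781850 (.node 2162699 [] (.cons 2686987 (.node 10551313 [] (.cons 10555409 (.node 9240580 [] (.cons 9244676 (.node 9109508 [] (.cons 11206660 (.node 2162716 [] (.cons 2687004 (.node 11403264 [] (.cons 11403280 (.node 8716306 [] (.cons 8720402 (.node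 11010068 [] (.cons 11014164 (.node 790538 [] (.cons 856074 (.node 8458252 [] (.cons 8458268 (.node 10489862 [] (.cons 10555398 (.node 655374 [] (.cons 917518 (.node 8454157 [] (.cons 10551309 (.node 2818064 [] (.cons 2818065 (.node 10489861 [] (.cons 10752005 (.node 8454170 [] (.cons 8454171 (.node 10813456 [] (.cons 10813460 (.node 8781827 [] (.cons 8785923 (.node 917524 [] (.cons 983060 (.node 200722 [] (.cons 200723 (.node 528406 [] (.cons 593942 (.node 9306113 [] (.cons 9306117 (.node 724996 [] (.cons 725004 (.node 327693 [] (.cons 851981 (.node 2756612 [] (.cons 3018756 (.node 8458250 [] (.cons 8589322 (.node 589845 [] (.cons 8978453 (.node 2293780 [] (.cons 2297876 (.node 2293784 [] (.cons 10682392 (.node 851992 [] (.cons 9240600 (.node 196630 [] (.cons 8585238 (.leaf 984696276497010718082494509195823136 []) .nil)) .nil)) .nil)) .nil)) .nil)) .nil)) .nil)) .nil)) .nil)) .nil)) .nil)) .nil)) .nil)) .nil)) .nil)) .nil)) .nil)) .nil)) .nil)) .nil)) .nil)) .nil)) .nil)) .nil)) .nil)) .nil)) .nil))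 .nil)) .nil)) .nil)) .nil)) .nil)) .nil)) .nil)) .nil)) .nil)) .nil)) .nil)) .nil)) .nil)) .nil)) .nil)) .nil)) .nil)) .nil)) .nil)) .nil)) .nil)) .nil)) .nil)) .nil)) .nil)) .nil)) .nil)) .nil)) .nil)) .nil)) .nil)) .nil)) .nil)) .nil)) .nil)) .nil)) .nil)) .nil)) .nil)) .nil)) .nil)) .nil)) .nil)) .nil)) .nil)) .nil)) .nil)) .nil)) .nil)) .nil)) .nil)) .nil)) .nil)) .nil)) .nil)) .nil)) .nil)) .nil)) .nil)) .nil)) .nil)) .nil)) .nil)) .nil)) .nil)) .nil)) .nil)) .nil)) .nil)) .nil)) .nil)) .nil)) .nil)) .nil)) .nil)) .nil)) .nil)) .nil)) .nil)) .nil)) .nil)) .nil)) .nil)) .nil)) .nil)) .nil)) .nil)) .nil)) .nil)) .nil)) .nil)) .nil)) .nil)) .nil)) .nil)) .nil)) (.cons 2818057 (.node 9043977 [] (.cons 9043981 (.node 8917001 [] (.cons 9179145 (.node 8912907 [] (.cons 8978443 (.node 8917009 [] (.cons 8917011 (.node 8585225 [] (.cons 8847369 (.node 8388635 [] (.cons 8650779 (.node 8650765 [] (.cons 10747917 (.node 8388623 [] (.cons 8392719 (.node 8917002 [] (.cons 11014154 (.node 8454157 [] (.cons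 8454173 (.node 262173 [] (.cons 266269 (.node 397321 [] (.cons 2494473 (.node 393227 [] (.cons 393231 (.node 2359321 [] (.cons 2424857 (.node 196619 [] (.cons 196635 (.node 2097179 [] (.cons 2101275 (.node 4119 [] (.cons 69655 (.node 266259 [] (.cons 397331 (.node 659474 [] (.cons 725010 (.node 9048080 [] (.cons 9310224 (.node 135194 [] (.cons 135198 (.node 331793 [] (.cons 8720401 (.node 2363409 [] (.cons 2887697 (.node 2359315 [] (.cons 2359319 (.node 131095 [] (.cons 8519703 (.node 8650773 [] (.cons 9175061 (.node 327701 [] (.cons 458773 (.node 2555905 [] (.cons 2555907 (.node 2428929 [] (.cons 2428933 (.node 2949121 [] (.cons 11337729 (.node 720899 [] (.cons 720903 (.node 11075592 [] (.cons 11075596 (.node 790533 [] (.cons 790535 (.node 9179138 [] (.cons 9244674 (.node 851971 [] (.cons 851987 (.node 266262 [] (.cons 8654870 (.node 2363412 [] (.cons 2494484 (.node 2359324 [] (.cons 2883612 (.node 2428944 [] (.cons 2428946 (.node 331800 [] (.cons 462872 (.node 921608 [] (.cons 921612 (.node 327706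 [] (.cons 327710 (.node 2162707 [] (.cons 10551315 (.node 10616849 [] (.cons 10878993 (.node 8847376 [] (.cons 8847378 (.node 10485767 [] (.cons 11010055 (.node 11014145 [] (.cons 11145217 (.node 8912918 [] (.cons 8978454 (.node 10485782 [] (.cons 10485790 (.node 2752515 [] (.cons 2752531 (.node 11010066 [] (.cons 11272210 (.node 2228246 [] (.cons 2293782 (.node 8781836 [] (.cons 8781852 (.node 2621454 [] (.cons 2752526 (.node 2756610 [] (.cons 3018754 (.node 3014664 [] (.cons 11403272 (.node 69658 [] (.cons 8458266 (.node 10747928 [] (.cons 10752024 (.node 10813448 [] (.cons 10813450 (.node 2625539 [] (.cons 2691075 (.node 2625542 [] (.cons 2625558 (.node 2293770 [] (.cons 2297866 (.node 10555400 [] (.cons 10555401 (.node 10682370 [] (.cons 11206658 (.node 2232332 [] (.cons 10620940 (.node 8585228 [] (.cons 8585230 (.node 2949128 [] (.cons 2953224 (.node 2228231 [] (.cons 2232327 (.node 593925 [] (.cons 8982533 (.node 589838 [] (.cons 593934 (.node 2228252 [] (.cons 2228253 (.node 2363402 [] (.cons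 2363406 (.node 2625541 [] (.cons 2625549 (.node 458758 [] (.cons 462854 (.node 8589316 [] (.cons 8589332 (.node 10620944 [] (.cons 10620946 (.node 8851456 [] (.cons 10948608 (.node 9048068 [] (.cons 9048070 (.node 9175046 [] (.cons 9175054 (.node 9306114 [] (.cons 9306115 (.node 8781830 [] (.cons 10878982 (.node 69645 [] (.cons 200717 (.node 8716291 [] (.cons 8716295 (.node 2162695 [] (.cons 2162703 (.node 196636 [] (.cons 720924 (.node 462849 [] (.cons 987137 (.node 589850 [] (.cons 2687002 (.node 9043988 [] (.cons 11141140 (.node 2162709 [] (.cons 2686997 (.node 9240580 [] (.cons 9371652 (.node 2555908 [] (.cons 2555916 (.node 2949124 [] (.cons 2949126 (.node 8912924 [] (.cons 8917020 (.node 2162716 [] (.cons 2166812 (.node 9109512 [] (.cons 9113608 (.node 2101269 [] (.cons 10489877 (.node 790538 [] (.cons 790554 (.node 8458252 [] (.cons 8720396 (.node 10489862 [] (.cons 10555398 (.node 11014160 [] (.cons 11079696 (.node 10682372 [] (.cons 10682373 (.node 2166801 [] (.cons 2297873 (.node 2818064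 [] (.cons 3080208 (.node 8785924 [] (.cons 8785925 (.node 856080 [] (.cons 856084 (.node 10813456 [] (.cons 10813460 (.node 69643 [] (.cons 331787 (.node 917524 [] (.cons 917526 (.node 983048 [] (.cons 983050 (.node 2228250 [] (.cons 2490394 (.node 2883594 [] (.cons 2883595 (.node 8654858 [] (.cons 8785930 (.node 724996 [] (.cons 2822148 (.node 11276288 [] (.cons 11276292 (.node 9043992 [] (.cons 9043994 (.node 327693 [] (.cons 851981 (.node 8458243 [] (.cons 8589315 (.node 2228235 [] (.cons 10616843 (.node 917509 [] (.cons 3014661 (.node 2293784 [] (.cons 10682392 (.node 851992 [] (.cons 9240600 (.node 10752002 [] (.cons 10752003 (.node 9043985 [] (.cons 9109521 (.leaf 984696273984862866076216588763236384 []) .nil)) .nil)) .nil)) .nil)) .nil)) .nil)) .nil)) .nil)) .nil)) .nil)) .nil)) .nil)) .nil)) .nil)) .nil)) .nil)) .nil)) .nil)) .nil)) .nil)) .nil)) .nil)) .nil)) .nil)) .nil)) .nil)) .nil)) .nil)) .nil)) .nil)) .nil)) .nil)) .nil)) .nil)) .nil)) .nil)) .nil)) .nil)) .nil)) .nil)) .nil)) .nil))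 .nil)) .nil)) .nil)) .nil)) .nil)) .nil)) .nil)) .nil)) .nil)) .nil)) .nil)) .nil)) .nil)) .nil)) .nil)) .nil)) .nil)) .nil)) .nil)) .nil)) .nil)) .nil)) .nil)) .nil)) .nil)) .nil)) .nil)) .nil)) .nil)) .nil)) .nil)) .nil)) .nil)) .nil)) .nil)) .nil)) .nil)) .nil)) .nil)) .nil)) .nil)) .nil)) .nil)) .nil)) .nil)) .nil)) .nil)) .nil)) .nil)) .nil)) .nil)) .nil)) .nil)) .nil)) .nil)) .nil)) .nil)) .nil)) .nil)) .nil)) .nil)) .nil)) .nil)) .nil)) .nil)) .nil)) .nil)) .nil)) .nil)) .nil)) .nil)) .nil)) .nil)) .nil)) .nil)) .nil)) .nil)) .nil)) .nil)) .nil)) .nil)) .nil))) .nil)) .nil)) (.cons 2756617 (.node 8917009 [] (.cons 8917011 (.node 9043985 [] (.cons 9109521 (.node 9048065 [] (.cons 9310209 (.node 8917001 [] (.cons 8917005 (.node 11014145 [] (.cons 11079681 (.node 9043977 [] (.cons 9043979 (.node 11141121 [] (.cons 11141125 (.node 790537 [] (.cons 790539 (.node 2625539 [] (.cons 2625543 (.node 790533 [] (.cons 856069 (.node 917509 [] (.cons 917511 (.node 589831 [] (.cons 8978439 (.node 9240577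 [] (.cons 9240585 (.node 589845 [] (.cons 2686997 (.node 589843 [] (.cons 851987 (.node 2883601 [] (.cons 2887697 (.node 2949121 [] (.cons 3080193 (.node 720899 [] (.cons 724995 (.node 2752515 [] (.cons 2752531 (.node 2686985 [] (.cons 2686987 (.node 786453 [] (.cons 9175061 (.node 11272193 [] (.cons 11272195 (.node 589837 [] (.cons 720909 (.node 786445 [] (.cons 2883597 (.node 2363401 [] (.cons 2428937 (.node 2424835 [] (.cons 2424839 (.node 397321 [] (.cons 397325 (.node 921608 [] (.cons 987144 (.node 8781833 [] (.cons 10878985 (.node 393227 [] (.cons 458763 (.node 8847361 [] (.cons 8847365 (.node 3014664 [] (.cons 3014666 (.node 2883602 [] (.cons 2883606 (.node 11010066 [] (.cons 11075602 (.node 2756610 [] (.cons 11145218 (.node 9043974 [] (.cons 9043990 (.node 9048080 [] (.cons 9048088 (.node 10616849 [] (.cons 10620945 (.node 8519705 [] (.cons 8519709 (.node 659474 [] (.cons 921618 (.node 266259 [] (.cons 266263 (.node 327701 [] (.cons 327709 (.node 2162707 [] (.cons 2166803 (.node 2359315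 [] (.cons 2359323 (.node 8650763 [] (.cons 8650767 (.node 9175046 [] (.cons 9179142 (.node 10485767 [] (.cons 10485783 (.node 8781836 [] (.cons 9306124 (.node 2621454 [] (.cons 11010062 (.node 11075592 [] (.cons 11206664 (.node 9306114 [] (.cons 9371650 (.node 2949128 [] (.cons 2949144 (.node 2228231 [] (.cons 2228239 (.node 8654857 [] (.cons 8654873 (.node 331800 [] (.cons 331802 (.node 10747928 [] (.cons 10747932 (.node 10813448 [] (.cons 10813450 (.node 2691080 [] (.cons 2691084 (.node 10555400 [] (.cons 10555416 (.node 10489866 [] (.cons 10489867 (.node 589838 [] (.cons 851982 (.node 8917002 [] (.cons 8982538 (.node 2363402 [] (.cons 2363406 (.node 8847368 [] (.cons 8847384 (.node 8851456 [] (.cons 10948608 (.node 2428944 [] (.cons 2428948 (.node 8654868 [] (.cons 8785940 (.node 8589328 [] (.cons 8589330 (.node 2428930 [] (.cons 2953218 (.node 2555908 [] (.cons 2555916 (.node 2490371 [] (.cons 2494467 (.node 720920 [] (.cons 720922 (.node 2293770 [] (.cons 2297866 (.node 8781830 [] (.cons 10878982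 (.node 10682370 [] (.cons 10682371 (.node 397329 [] (.cons 462865 (.node 2949124 [] (.cons 11337732 (.node 9048068 [] (.cons 9113604 (.node 8585228 [] (.cons 8585230 (.node 8392718 [] (.cons 8392734 (.node 135194 [] (.cons 135195 (.node 69645 [] (.cons 69647 (.node 131095 [] (.cons 196631 (.node 2293766 [] (.cons 2818054 (.node 2228246 [] (.cons 2232342 (.node 2232332 [] (.cons 10620940 (.node 2228252 [] (.cons 2752540 (.node 458758 [] (.cons 462854 (.node 8716305 [] (.cons 10813457 (.node 8716291 [] (.cons 8720387 (.node 200728 [] (.cons 200732 (.node 458770 [] (.cons 2555922 (.node 8912924 [] (.cons 8978460 (.node 2162716 [] (.cons 2162718 (.node 11403264 [] (.cons 11403280 (.node 8716306 [] (.cons 8716310 (.node 2101269 [] (.cons 2101277 (.node 11010068 [] (.cons 11014164 (.node 8458252 [] (.cons 8720396 (.node 10489862 [] (.cons 10555398 (.node 655374 [] (.cons 659470 (.node 8454157 [] (.cons 10551309 (.node 10682372 [] (.cons 10682388 (.node 2818064 [] (.cons 2822160 (.node 10489861 [] (.cons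 10752005 (.node 8454170 [] (.cons 8454171 (.node 9179144 [] (.cons 11276296 (.node 856080 [] (.cons 9244688 (.node 786460 [] (.cons 790556 (.node 8781827 [] (.cons 8781843 (.node 917524 [] (.cons 983060 (.node 9175058 [] (.cons 9175066 (.node 2625546 [] (.cons 2625562 (.node 8585225 [] (.cons 8589321 (.node 2228250 [] (.cons 10616858 (.node 393242 [] (.cons 393246 (.node 10752016 [] (.cons 10752018 (.node 528406 [] (.cons 593942 (.node 8523782 [] (.cons 8523783 (.node 8654858 [] (.cons 8785930 (.node 393237 [] (.cons 2490389 (.node 2756612 [] (.cons 3018756 (.node 196633 [] (.cons 2293785 (.node 2166789 [] (.cons 2297861 (.node 8458257 [] (.cons 8458261 (.node 2363416 [] (.cons 2494488 (.leaf 901578958455913038194947276568365088 []) .nil)) .nil)) .nil)) .nil)) .nil)) .nil)) .nil)) .nil)) .nil)) .nil)) .nil)) .nil)) .nil)) .nil)) .nil)) .nil)) .nil)) .nil)) .nil)) .nil)) .nil)) .nil)) .nil)) .nil)) .nil)) .nil)) .nil)) .nil)) .nil)) .nil)) .nil)) .nil)) .nil)) .nil)) .nil)) .nil)) .nil)) .nil)) .nil))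 .nil)) .nil)) .nil)) .nil)) .nil)) .nil)) .nil)) .nil)) .nil)) .nil)) .nil)) .nil)) .nil)) .nil)) .nil)) .nil)) .nil)) .nil)) .nil)) .nil)) .nil)) .nil)) .nil)) .nil)) .nil)) .nil)) .nil)) .nil)) .nil)) .nil)) .nil)) .nil)) .nil)) .nil)) .nil)) .nil)) .nil)) .nil)) .nil)) .nil)) .nil)) .nil)) .nil)) .nil)) .nil)) .nil)) .nil)) .nil)) .nil)) .nil)) .nil)) .nil)) .nil)) .nil)) .nil)) .nil)) .nil)) .nil)) .nil)) .nil)) .nil)) .nil)) (.cons 10752009 (.node 2428929 [] (.cons 2428931 (.node 8781833 [] (.cons 8781837 (.node 8847361 [] (.cons 8847363 (.node 8650763 [] (.cons 8650779 (.node 393227 [] (.cons 2490379 (.node 3014664 [] (.cons 11403272 (.node 397321 [] (.cons 462857 (.node 921608 [] (.cons 921612 (.node 8519705 [] (.cons 8523801 (.node 9048080 [] (.cons 11145232 (.node 2756610 [] (.cons 3018754 (.node 10616849 [] (.cons 10878993 (.node 11075592 [] (.cons 11075596 (.node 659474 [] (.cons 659482 (.node 2162707 [] (.cons 10551315 (.node 11010066 [] (.cons 11010070 (.node 9043974 [] (.cons 9048070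 (.node 9179138 [] (.cons 9244674 (.node 9175046 [] (.cons 9175054 (.node 2883602 [] (.cons 2883610 (.node 10747916 [] (.cons 10747932 (.node 10813448 [] (.cons 10813450 (.node 2359315 [] (.cons 2359319 (.node 266259 [] (.cons 397331 (.node 10485767 [] (.cons 10485775 (.node 2621454 [] (.cons 2752526 (.node 9306114 [] (.cons 9306130 (.node 2949128 [] (.cons 2953224 (.node 2228231 [] (.cons 2293767 (.node 2228246 [] (.cons 2232342 (.node 2363412 [] (.cons 2428948 (.node 589838 [] (.cons 593934 (.node 8392718 [] (.cons 8392734 (.node 8654868 [] (.cons 8785940 (.node 8589328 [] (.cons 8589330 (.node 266262 [] (.cons 790550 (.node 10682370 [] (.cons 11206658 (.node 8847376 [] (.cons 8847384 (.node 331800 [] (.cons 331802 (.node 8851456 [] (.cons 10948608 (.node 10555400 [] (.cons 10555416 (.node 8917002 [] (.cons 11014154 (.node 2555908 [] (.cons 2555916 (.node 2232332 [] (.cons 10620940 (.node 8585228 [] (.cons 8585230 (.node 8589316 [] (.cons 8589317 (.node 2228252 [] (.cons 2228253 (.node 2363402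 [] (.cons 2363406 (.node 2359321 [] (.cons 2424857 (.node 327701 [] (.cons 458773 (.node 720920 [] (.cons 2818072 (.node 2293770 [] (.cons 2297866 (.node 196619 [] (.cons 196635 (.node 458758 [] (.cons 462854 (.node 8781830 [] (.cons 10878982 (.node 4119 [] (.cons 69655 (.node 327708 [] (.cons 851996 (.node 2949124 [] (.cons 2949126 (.node 69645 [] (.cons 2166797 (.node 131095 [] (.cons 8519703 (.node 8716305 [] (.cons 8720401 (.node 2097179 [] (.cons 2101275 (.node 200728 [] (.cons 200732 (.node 458770 [] (.cons 2555922 (.node 2232323 [] (.cons 10620931 (.node 589850 [] (.cons 8978458 (.node 987136 [] (.cons 987152 (.node 262173 [] (.cons 266269 (.node 9043988 [] (.cons 9043996 (.node 10813441 [] (.cons 10813445 (.node 9240580 [] (.cons 9371652 (.node 2162716 [] (.cons 2162718 (.node 8654872 [] (.cons 9179160 (.node 65565 [] (.cons 8454173 (.node 8716306 [] (.cons 8716310 (.node 9109512 [] (.cons 9113608 (.node 2101269 [] (.cons 10489877 (.node 8458252 [] (.cons 8720396 (.node 10489862 [] (.cons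 10555398 (.node 8392715 [] (.cons 8458251 (.node 10682372 [] (.cons 10682388 (.node 2166801 [] (.cons 2297873 (.node 2494465 [] (.cons 2494469 (.node 10813456 [] (.cons 11337744 (.node 917524 [] (.cons 3014676 (.node 327691 [] (.cons 327695 (.node 8654853 [] (.cons 8654855 (.node 983048 [] (.cons 983050 (.node 528412 [] (.cons 2625564 (.node 131087 [] (.cons 135183 (.node 8585225 [] (.cons 10682377 (.node 2228250 [] (.cons 10616858 (.node 393242 [] (.cons 393246 (.node 2686994 [] (.cons 2691090 (.node 10752016 [] (.cons 10752018 (.node 8654858 [] (.cons 8785930 (.node 724996 [] (.cons 2822148 (.node 11276288 [] (.cons 11276292 (.node 8982532 [] (.cons 8982548 (.node 2363416 [] (.cons 2494488 (.node 196630 [] (.cons 720918 (.leaf 818461649897629486211629785729304608 []) .nil)) .nil)) .nil)) .nil)) .nil)) .nil)) .nil)) .nil)) .nil)) .nil)) .nil)) .nil)) .nil)) .nil)) .nil)) .nil)) .nil)) .nil)) .nil)) .nil)) .nil)) .nil)) .nil)) .nil)) .nil)) .nil)) .nil)) .nil)) .nil)) .nil)) .nil)) .nil)) .nil))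 .nil)) .nil)) .nil)) .nil)) .nil)) .nil)) .nil)) .nil)) .nil)) .nil)) .nil)) .nil)) .nil)) .nil)) .nil)) .nil)) .nil)) .nil)) .nil)) .nil)) .nil)) .nil)) .nil)) .nil)) .nil)) .nil)) .nil)) .nil)) .nil)) .nil)) .nil)) .nil)) .nil)) .nil)) .nil)) .nil)) .nil)) .nil)) .nil)) .nil)) .nil)) .nil)) .nil)) .nil)) .nil)) .nil)) .nil)) .nil)) .nil)) .nil)) .nil)) .nil)) .nil)) .nil)) .nil)) .nil)) .nil)) .nil)) .nil)) .nil)) .nil)) .nil)) .nil)) .nil)) .nil)) .nil)) .nil)) .nil)) .nil))) .nil)) .nil)) .nil)) .nil)) .nil)) .nil)) .nil)) .nil)) .nil)) .nil)) .nil)) .nil)) .nil)) .nil)) .nil)) .nil)) .nil)) .nil)) .nil)) .nil)) .nil)) .nil)) .nil)) (.cons 9179153 (.node 528403 [] (.cons 2625555 (.node 8912917 [] (.cons 8978453 (.node 8912915 [] (.cons 9043987 (.node 589843 [] (.cons 851987 (.node 2883601 [] (.cons 2883605 (.node 9048065 [] (.cons 9113601 (.node 11014145 [] (.cons 11014149 (.node 9043977 [] (.cons 9043981 (.node 8917001 [] (.cons 8917003 (.node 8978435 [] (.cons 11075587 (.node 9240577 [] (.cons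 9240585 (.node 2686985 [] (.cons 2686989 (.node 9306113 [] (.cons 11403265 (.node 2949121 [] (.cons 2953217 (.node 2752515 [] (.cons 2752519 (.node 720899 [] (.cons 720907 (.node 593925 [] (.cons 593927 (.node 790533 [] (.cons 790541 (.node 2818049 [] (.cons 2818065 (.node 921601 [] (.cons 921603 (.node 917509 [] (.cons 983045 (.node 9175043 [] (.cons 9175047 (.node 2621451 [] (.cons 2883595 (.node 2363401 [] (.cons 2363417 (.node 266259 [] (.cons 266263 (.node 327701 [] (.cons 327709 (.node 2101255 [] (.cons 2101263 (.node 2625542 [] (.cons 2887686 (.node 9179138 [] (.cons 9244674 (.node 10485767 [] (.cons 10485783 (.node 11010066 [] (.cons 11272210 (.node 10616849 [] (.cons 10620945 (.node 9048080 [] (.cons 9048088 (.node 921608 [] (.cons 987144 (.node 3014664 [] (.cons 3014668 (.node 2359309 [] (.cons 10747917 (.node 2359324 [] (.cons 2359326 (.node 397321 [] (.cons 8785929 (.node 8650763 [] (.cons 8650779 (.node 393227 [] (.cons 393231 (.node 8519705 [] (.cons 8585241 (.node 8847361 [] (.cons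 8847363 (.node 2555905 [] (.cons 2555913 (.node 2424835 [] (.cons 2424839 (.node 659474 [] (.cons 725010 (.node 2756610 [] (.cons 11145218 (.node 9043974 [] (.cons 9109510 (.node 8912918 [] (.cons 8917014 (.node 2162707 [] (.cons 2162715 (.node 2359315 [] (.cons 2490387 (.node 2621454 [] (.cons 11010062 (.node 9306114 [] (.cons 9306122 (.node 2949128 [] (.cons 2949144 (.node 10747928 [] (.cons 10879000 (.node 8781836 [] (.cons 8847372 (.node 589838 [] (.cons 851982 (.node 720920 [] (.cons 720924 (.node 397329 [] (.cons 462865 (.node 8589328 [] (.cons 8589332 (.node 8847376 [] (.cons 9371664 (.node 8851456 [] (.cons 10948608 (.node 10813448 [] (.cons 10813450 (.node 10489866 [] (.cons 10489882 (.node 10551314 [] (.cons 10682386 (.node 2228246 [] (.cons 2232342 (.node 2293766 [] (.cons 2293774 (.node 2428930 [] (.cons 2428946 (.node 2363412 [] (.cons 10752020 (.node 331800 [] (.cons 8720408 (.node 327706 [] (.cons 458778 (.node 2232332 [] (.cons 10620940 (.node 69658 [] (.cons 69662 (.node 8392718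 [] (.cons 8654862 (.node 135194 [] (.cons 135195 (.node 2228252 [] (.cons 2228253 (.node 2555908 [] (.cons 2555924 (.node 2363402 [] (.cons 2494474 (.node 8650780 [] (.cons 9175068 (.node 458758 [] (.cons 462854 (.node 8650773 [] (.cons 8781845 (.node 8781830 [] (.cons 10878982 (.node 2818056 [] (.cons 11206664 (.node 10555400 [] (.cons 10555401 (.node 8392717 [] (.cons 8392733 (.node 2691080 [] (.cons 2691082 (.node 2949124 [] (.cons 11337732 (.node 9048068 [] (.cons 9310212 (.node 2428932 [] (.cons 2428940 (.node 8388623 [] (.cons 8454159 (.node 69645 [] (.cons 200717 (.node 10485788 [] (.cons 10551324 (.node 131095 [] (.cons 196631 (.node 8716305 [] (.cons 10813457 (.node 200728 [] (.cons 2297880 (.node 2232323 [] (.cons 2297859 (.node 589850 [] (.cons 8978458 (.node 9043988 [] (.cons 11141140 (.node 2162709 [] (.cons 2166805 (.node 2162710 [] (.cons 2686998 (.node 8716306 [] (.cons 8716310 (.node 790538 [] (.cons 790554 (.node 8458252 [] (.cons 8982540 (.node 10489862 [] (.cons 10555398 (.node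 655374 [] (.cons 659470 (.node 11014160 [] (.cons 11079696 (.node 10682372 [] (.cons 10682373 (.node 2818050 [] (.cons 3080194 (.node 9179144 [] (.cons 11276296 (.node 2494465 [] (.cons 2494469 (.node 856080 [] (.cons 856084 (.node 69643 [] (.cons 331787 (.node 917524 [] (.cons 917526 (.node 8654853 [] (.cons 8720389 (.node 528412 [] (.cons 2625564 (.node 2228250 [] (.cons 2752538 (.node 397332 [] (.cons 397340 (.node 8523782 [] (.cons 8523783 (.node 8458258 [] (.cons 8458259 (.node 8519708 [] (.cons 8519710 (.node 724996 [] (.cons 2822148 (.node 2228235 [] (.cons 10616843 (.node 8458250 [] (.cons 8589322 (.node 3018752 [] (.cons 3018768 (.node 8785922 [] (.cons 8785938 (.node 10752002 [] (.cons 10752003 (.leaf 901578955827708310964429469184526368 []) .nil)) .nil)) .nil)) .nil)) .nil)) .nil)) .nil)) .nil)) .nil)) .nil)) .nil)) .nil)) .nil)) .nil)) .nil)) .nil)) .nil)) .nil)) .nil)) .nil)) .nil)) .nil)) .nil)) .nil)) .nil)) .nil)) .nil)) .nil)) .nil)) .nil)) .nil)) .nil)) .nil)) .nil)) .nil)) .nil))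 .nil)) .nil)) .nil)) .nil)) .nil)) .nil)) .nil)) .nil)) .nil)) .nil)) .nil)) .nil)) .nil)) .nil)) .nil)) .nil)) .nil)) .nil)) .nil)) .nil)) .nil)) .nil)) .nil)) .nil)) .nil)) .nil)) .nil)) .nil)) .nil)) .nil)) .nil)) .nil)) .nil)) .nil)) .nil)) .nil)) .nil)) .nil)) .nil)) .nil)) .nil)) .nil)) .nil)) .nil)) .nil)) .nil)) .nil)) .nil)) .nil)) .nil)) .nil)) .nil)) .nil)) .nil)) .nil)) .nil)) .nil)) .nil)) .nil)) .nil)) .nil)) .nil)) .nil)) .nil)) .nil)) (.cons 10752009 (.node 8781833 [] (.cons 8781835 (.node 8847361 [] (.cons 8847377 (.node 2359309 [] (.cons 2490381 (.node 2555905 [] (.cons 2555907 (.node 3014664 [] (.cons 3080200 (.node 921608 [] (.cons 9310216 (.node 9048080 [] (.cons 11145232 (.node 2756610 [] (.cons 2822146 (.node 10616849 [] (.cons 10616853 (.node 397321 [] (.cons 462857 (.node 8519705 [] (.cons 8523801 (.node 8392717 [] (.cons 8458253 (.node 11075592 [] (.cons 11079688 (.node 659474 [] (.cons 659482 (.node 2363409 [] (.cons 2494481 (.node 2359315 [] (.cons 10747923 (.node 11010066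 [] (.cons 11010070 (.node 2883602 [] (.cons 3014674 (.node 10485767 [] (.cons 10485775 (.node 2621454 [] (.cons 2625550 (.node 9306114 [] (.cons 9371650 (.node 9179138 [] (.cons 11276290 (.node 9043974 [] (.cons 9048070 (.node 2101255 [] (.cons 2363399 (.node 266259 [] (.cons 266267 (.node 8847368 [] (.cons 8847372 (.node 8851456 [] (.cons 10948608 (.node 8589316 [] (.cons 8589332 (.node 2555908 [] (.cons 2555924 (.node 2359321 [] (.cons 2424857 (.node 10813448 [] (.cons 10813450 (.node 2428944 [] (.cons 2428946 (.node 10551314 [] (.cons 10682386 (.node 2293766 [] (.cons 2293774 (.node 2228246 [] (.cons 2232342 (.node 327701 [] (.cons 331797 (.node 331800 [] (.cons 8720408 (.node 2162707 [] (.cons 2162711 (.node 2232332 [] (.cons 10620940 (.node 10489866 [] (.cons 10489882 (.node 8392718 [] (.cons 8654862 (.node 8654868 [] (.cons 10752020 (.node 2359324 [] (.cons 2359326 (.node 10747916 [] (.cons 11272204 (.node 266262 [] (.cons 790550 (.node 327706 [] (.cons 458778 (.node 69658 [] (.cons 69662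 (.node 10747928 [] (.cons 10879000 (.node 2228252 [] (.cons 2752540 (.node 2363402 [] (.cons 2494474 (.node 720920 [] (.cons 9109528 (.node 8650780 [] (.cons 8650781 (.node 458758 [] (.cons 462854 (.node 4119 [] (.cons 8392727 (.node 327708 [] (.cons 851996 (.node 589838 [] (.cons 8978446 (.node 2949124 [] (.cons 2949126 (.node 2428932 [] (.cons 2428940 (.node 10485788 [] (.cons 10551324 (.node 131095 [] (.cons 393239 (.node 8781830 [] (.cons 10878982 (.node 2097179 [] (.cons 2228251 (.node 8716291 [] (.cons 8720387 (.node 200728 [] (.cons 2297880 (.node 2232323 [] (.cons 10620931 (.node 196636 [] (.cons 196637 (.node 11010058 [] (.cons 11141130 (.node 589850 [] (.cons 2687002 (.node 987136 [] (.cons 987152 (.node 9043988 [] (.cons 9306132 (.node 10813441 [] (.cons 10813445 (.node 2162699 [] (.cons 2166795 (.node 10551313 [] (.cons 10555409 (.node 9240580 [] (.cons 9244676 (.node 9109508 [] (.cons 11206660 (.node 8912924 [] (.cons 8917020 (.node 8716306 [] (.cons 8716310 (.node 8982530 [] (.cons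 8982546 (.node 2101269 [] (.cons 2101277 (.node 790538 [] (.cons 856074 (.node 10489862 [] (.cons 10555398 (.node 655374 [] (.cons 917518 (.node 2883608 [] (.cons 2887704 (.node 8454170 [] (.cons 8454171 (.node 8785924 [] (.cons 8785925 (.node 10813456 [] (.cons 11337744 (.node 9175058 [] (.cons 9175066 (.node 327691 [] (.cons 327695 (.node 131087 [] (.cons 135183 (.node 8585225 [] (.cons 10682377 (.node 397332 [] (.cons 397340 (.node 200722 [] (.cons 200723 (.node 8519708 [] (.cons 8519710 (.node 724996 [] (.cons 725004 (.node 2756612 [] (.cons 3018756 (.node 196615 [] (.cons 8585223 (.node 8458250 [] (.cons 8589322 (.node 8785922 [] (.cons 8785938 (.node 2686996 [] (.cons 2691092 (.node 2166789 [] (.cons 2297861 (.node 196630 [] (.cons 720918 (.leaf 818461642593299680641275798334048288 []) .nil)) .nil)) .nil)) .nil)) .nil)) .nil)) .nil)) .nil)) .nil)) .nil)) .nil)) .nil)) .nil)) .nil)) .nil)) .nil)) .nil)) .nil)) .nil)) .nil)) .nil)) .nil)) .nil)) .nil)) .nil)) .nil)) .nil)) .nil)) .nil)) .nil))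 .nil)) .nil)) .nil)) .nil)) .nil)) .nil)) .nil)) .nil)) .nil)) .nil)) .nil)) .nil)) .nil)) .nil)) .nil)) .nil)) .nil)) .nil)) .nil)) .nil)) .nil)) .nil)) .nil)) .nil)) .nil)) .nil)) .nil)) .nil)) .nil)) .nil)) .nil)) .nil)) .nil)) .nil)) .nil)) .nil)) .nil)) .nil)) .nil)) .nil)) .nil)) .nil)) .nil)) .nil)) .nil)) .nil)) .nil)) .nil)) .nil)) .nil)) .nil)) .nil)) .nil)) .nil)) .nil)) .nil)) .nil)) .nil)) .nil)) .nil)) .nil)) .nil)) .nil)) .nil)) .nil)) .nil)) .nil)) .nil)) .nil)) .nil)) .nil)) .nil))) .nil)) .nil)) .nil)) .nil)) .nil)) .nil)) .nil)) .nil)) .nil)) .nil)) .nil)) .nil)) .nil)) .nil)) .nil)) .nil)) .nil)) .nil)) .nil)) .nil)) .nil)) .nil)) .nil)) .nil))) .nil))) .nil)) .nil)) .nil)) .nil)) .nil))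

/-- search tree -/
noncomputable def tr11 : Tr := (.node 10878977 [(1,2),(2,3),(3,4),(4,12),(12,16),(16,19)] (.cons 10878979 (.node 10682370 [(0,18),(2,3),(3,4),(4,12),(12,19)] (.cons 10682374 (.node 10682369 [(3,4),(4,12),(12,19)] (.cons 10682377 (.node 10616837 [(4,12),(12,19)] (.cons 10616853 (.node 10620929 [] (.cons 11145217 (.node 10616844 [(12,19)] (.cons 10620940 (.node 11141124 [] (.cons 11403268 (.node 11206656 [] (.cons 11206672 (.node 10686464 [] (.cons 10948608 (.node 10620944 [] (.cons 10620946 (.node 10878992 [] (.cons 10879000 (.node 10616842 [] (.cons 11141130 (.node 9109505 [] (.cons 9109507 (.node 9043973 [] (.cons 9043981 (.node 9109508 [] (.cons 9113604 (.node 8523796 [] (.cons 8785940 (.node 8523782 [] (.cons 8523783 (.node 9048080 [] (.cons 9048088 (.node 8523785 [] (.cons 8785929 (.node 9048066 [] (.cons 9310210 (.node 9306128 [] (.cons 9306129 (.node 8847361 [] (.cons 8847365 (.node 8781836 [] (.cons 8781838 (.node 8519708 [] (.cons 8585244 (.node 8781842 [] (.cons 8847378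 (.node 8519705 [] (.cons 8519707 (.node 8589313 [] (.cons 8589329 (.node 9043988 [] (.cons 9043990 (.node 9371648 [] (.cons 9371656 (.node 8585226 [] (.cons 8589322 (.node 8716308 [] (.cons 9240596 (.node 8978438 [] (.cons 8978446 (.node 8916998 [] (.cons 11014150 (.node 10489876 [] (.cons 10555412 (.node 11014160 [] (.cons 11276304 (.node 10747910 [] (.cons 10747926 (.node 9175046 [] (.cons 9175047 (.node 8654853 [] (.cons 10752005 (.node 10485773 [] (.cons 10485775 (.node 10489859 [] (.cons 10555395 (.node 8454163 [] (.cons 8454167 (.node 10551308 [] (.cons 10813452 (.node 9175052 [] (.cons 9179148 (.node 8454170 [] (.cons 10551322 (.node 8458258 [] (.cons 8982546 (.node 9244672 [] (.cons 9244673 (.node 8982536 [] (.cons 11079688 (.node 8978441 [] (.cons 8978457 (.node 8716297 [] (.cons 8716299 (.node 11075585 [] (.cons 11075589 (.node 8458249 [] (.cons 8458253 (.node 8716312 [] (.cons 8720408 (.node 8392730 [] (.cons 8392734 (.node 8654858 [] (.cons 10752010 (.node 8654866 [] (.cons 8654867 (.node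 8650780 [] (.cons 8650781 (.node 10485788 [] (.cons 11010076 (.node 8912922 [] (.cons 9175066 (.node 10489865 [] (.cons 10489881 (.node 11010065 [] (.cons 11010067 (.node 11272193 [] (.cons 11272201 (.node 8912907 [] (.cons 8917003 (.node 8916997 [] (.cons 8917013 (.node 8716294 [] (.cons 8720390 (.node 11337728 [] (.cons 11337730 (.node 8716305 [] (.cons 10813457 (.leaf 984655388728986743807217285038442528 []) .nil)) .nil)) .nil)) .nil)) .nil)) .nil)) .nil)) .nil)) .nil)) .nil)) .nil)) .nil)) .nil)) .nil)) .nil)) .nil)) .nil)) .nil)) .nil)) .nil)) .nil)) .nil)) .nil)) .nil)) .nil)) .nil)) .nil)) .nil)) .nil)) .nil)) .nil)) .nil)) .nil)) .nil)) .nil)) (.cons 10813460 (.node 10489876 [] (.cons 11014164 (.node 8916998 [] (.cons 8917006 (.node 8978438 [] (.cons 9240582 (.node 10747910 [] (.cons 10752006 (.node 8654853 [] (.cons 9179141 (.node 8392730 [] (.cons 8654874 (.node 8650774 [] (.cons 8650775 (.node 8454163 [] (.cons 10551315 (.node 10489859 [] (.cons 10489867 (.node 10485773 [] (.cons 10747917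 (.node 9240592 [] (.cons 9244688 (.node 10555396 [] (.cons 10555397 (.node 10551308 [] (.cons 11075596 (.node 9175052 [] (.cons 9175068 (.node 8982536 [] (.cons 8982537 (.node 11075585 [] (.cons 11337729 (.node 8454170 [] (.cons 8978458 (.node 8458258 [] (.cons 8458262 (.node 8716312 [] (.cons 8716313 (.node 8392717 [] (.cons 8392733 (.node 10813448 [] (.cons 10813450 (.node 10485788 [] (.cons 10485790 (.node 11010065 [] (.cons 11010073 (.node 10489873 [] (.cons 10752017 (.node 8454151 [] (.cons 8454159 (.node 8912907 [] (.cons 9175051 (.node 9179144 [] (.cons 11276296 (.node 10747922 [] (.cons 11272210 (.node 8720385 [] (.cons 8720387 (.node 8978437 [] (.cons 8978453 (.node 8916995 [] (.cons 8917011 (.node 11010051 [] (.cons 11010055 (.node 8720388 [] (.cons 8720396 (.node 10489880 [] (.cons 10555416 (.node 11075586 [] (.cons 11079682 (.leaf 984818227244488530155507953648633888 []) .nil)) .nil)) .nil)) .nil)) .nil)) .nil)) .nil)) .nil)) .nil)) .nil)) .nil)) .nil)) .nil)) .nil)) .nil)) .nil)) .nil))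 .nil)) .nil)) .nil)) .nil)) .nil)) .nil)) .nil)) .nil)) .nil)) .nil)) .nil)) .nil)) .nil)) .nil)) .nil)) .nil)) .nil)) .nil)) .nil))) .nil)) .nil)) .nil)) .nil)) .nil)) .nil)) .nil)) .nil)) .nil)) .nil)) .nil)) .nil)) .nil)) .nil)) .nil)) .nil)) .nil)) (.cons 9109509 (.node 9043971 [] (.cons 9043987 (.node 9306128 [] (.cons 9310224 (.node 8781841 [] (.cons 8847377 (.node 8781844 [] (.cons 8781846 (.node 8519694 [] (.cons 8519695 (.node 8523782 [] (.cons 9048070 (.node 8523781 [] (.cons 8785925 (.node 8523779 [] (.cons 8589315 (.node 8781836 [] (.cons 8847372 (.node 8519708 [] (.cons 9043996 (.node 8523785 [] (.cons 8523801 (.node 8585240 [] (.cons 8585242 (.node 8523796 [] (.cons 8589332 (.node 9113600 [] (.cons 9113608 (.node 8785922 [] (.cons 8785930 (.node 9109506 [] (.cons 9371650 (.node 9306113 [] (.cons 9306121 (.node 8454172 [] (.cons 8454173 (.node 8454163 [] (.cons 10551315 (.node 10551308 [] (.cons 11075596 (.node 9240584 [] (.cons 9240600 (.node 8716308 [] (.cons 10813460 (.node 10485773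 [] (.cons 10747917 (.node 10489876 [] (.cons 11014164 (.node 8978438 [] (.cons 8978454 (.node 8654857 [] (.cons 8720393 (.node 10747910 [] (.cons 10752006 (.node 10489859 [] (.cons 10489867 (.node 10555396 [] (.cons 10555397 (.node 9179138 [] (.cons 9179139 (.node 9175046 [] (.cons 9175054 (.node 8654866 [] (.cons 8720402 (.node 8978441 [] (.cons 8978443 (.node 11075585 [] (.cons 11337729 (.node 9175057 [] (.cons 9175061 (.node 8392717 [] (.cons 8917005 (.node 9244672 [] (.cons 9244676 (.node 10813448 [] (.cons 10813450 (.node 8650780 [] (.cons 8654876 (.node 8392730 [] (.cons 8917018 (.node 10485788 [] (.cons 10485790 (.node 11010065 [] (.cons 11010073 (.node 8716293 [] (.cons 8716295 (.node 10489873 [] (.cons 10752017 (.node 9179144 [] (.cons 11276296 (.node 10747922 [] (.cons 11272210 (.node 8454158 [] (.cons 8458254 (.node 11010051 [] (.cons 11010055 (.node 8982529 [] (.cons 8982545 (.node 8650777 [] (.cons 8650779 (.node 10489880 [] (.cons 10555416 (.node 8388631 [] (.cons 8392727 (.node 11075586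 [] (.cons 11079682 (.leaf 984696274023548491150963217746987040 []) .nil)) .nil)) .nil)) .nil)) .nil)) .nil)) .nil)) .nil)) .nil)) .nil)) .nil)) .nil)) .nil)) .nil)) .nil)) .nil)) .nil)) .nil)) .nil)) .nil)) .nil)) .nil)) .nil)) .nil)) .nil)) .nil)) .nil)) .nil)) .nil)) .nil)) .nil)) .nil)) .nil)) .nil)) .nil)) (.cons 10551324 (.node 8716308 [] (.cons 9240596 (.node 9240584 [] (.cons 11337736 (.node 8978438 [] (.cons 8978446 (.node 9175057 [] (.cons 11272209 (.node 9175046 [] (.cons 9175047 (.node 9179138 [] (.cons 11276290 (.node 10747910 [] (.cons 10747918 (.node 10485773 [] (.cons 11010061 (.node 9175052 [] (.cons 9179148 (.node 8978441 [] (.cons 8978457 (.node 11075585 [] (.cons 11075587 (.node 8454163 [] (.cons 8454167 (.node 8716312 [] (.cons 8720408 (.node 8654857 [] (.cons 10752009 (.node 10489859 [] (.cons 10489863 (.node 8716297 [] (.cons 8716299 (.node 10555396 [] (.cons 11079684 (.node 10489876 [] (.cons 10752020 (.node 11014160 [] (.cons 11014168 (.node 8392730 [] (.cons 8392734 (.node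 8654866 [] (.cons 8654867 (.node 10555393 [] (.cons 10555409 (.node 8458249 [] (.cons 8458253 (.node 8458258 [] (.cons 8982546 (.node 9244672 [] (.cons 9244673 (.node 8650780 [] (.cons 8650781 (.node 8912922 [] (.cons 9175066 (.node 8716293 [] (.cons 10813445 (.node 10485786 [] (.cons 10485787 (.node 8912907 [] (.cons 8917003 (.node 10551306 [] (.cons 10555402 (.node 8916997 [] (.cons 8917013 (.node 8716294 [] (.cons 8720390 (.node 10747922 [] (.cons 10813458 (.node 11010068 [] (.cons 11010070 (.leaf 984817647851073452259936328686340128 []) .nil)) .nil)) .nil)) .nil)) .nil)) .nil)) .nil)) .nil)) .nil)) .nil)) .nil)) .nil)) .nil)) .nil)) .nil)) .nil)) .nil)) .nil)) .nil)) .nil)) .nil)) .nil)) .nil)) .nil)) .nil)) .nil)) .nil)) .nil)) .nil)) .nil)) .nil)) .nil)) .nil)) .nil)) .nil)) .nil))) .nil)) .nil)) .nil)) .nil)) .nil)) .nil)) .nil)) .nil)) .nil)) .nil)) .nil)) .nil)) .nil)) .nil)) .nil)) .nil)) .nil)) (.cons 9371649 (.node 8781841 [] (.cons 8785937 (.node 8523785 [] (.cons 8523787 (.node 8523781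 [] (.cons 8589317 (.node 9109508 [] (.cons 9109516 (.node 8519708 [] (.cons 8519710 (.node 8781844 [] (.cons 8847380 (.node 8781836 [] (.cons 8781837 (.node 8585240 [] (.cons 8589336 (.node 9048080 [] (.cons 9048084 (.node 8523782 [] (.cons 8785926 (.node 9306128 [] (.cons 9306130 (.node 9043971 [] (.cons 9043975 (.node 9048066 [] (.cons 9113602 (.node 9043992 [] (.cons 9043993 (.node 8585219 [] (.cons 8585235 (.node 9310208 [] (.cons 9310216 (.node 8585226 [] (.cons 8847370 (.node 8454172 [] (.cons 8454173 (.node 8716297 [] (.cons 8720393 (.node 10551308 [] (.cons 10813452 (.node 9240584 [] (.cons 9240600 (.node 10747910 [] (.cons 10747926 (.node 10489876 [] (.cons 10555412 (.node 9179152 [] (.cons 11276304 (.node 9175057 [] (.cons 9175061 (.node 8654853 [] (.cons 10752005 (.node 10489859 [] (.cons 10555395 (.node 9179138 [] (.cons 9179139 (.node 9175052 [] (.cons 9175054 (.node 8978438 [] (.cons 8978454 (.node 8916998 [] (.cons 11014150 (.node 8982536 [] (.cons 11079688 (.node 8978441 [] (.cons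 8978443 (.node 11075585 [] (.cons 11075589 (.node 10485773 [] (.cons 10485775 (.node 8454170 [] (.cons 10551322 (.node 8458258 [] (.cons 8720402 (.node 8392730 [] (.cons 8917018 (.node 8654858 [] (.cons 10752010 (.node 8392717 [] (.cons 8917005 (.node 9244672 [] (.cons 9244676 (.node 8650780 [] (.cons 8654876 (.node 10485788 [] (.cons 11010076 (.node 10489865 [] (.cons 10489881 (.node 11010065 [] (.cons 11010067 (.node 8716293 [] (.cons 8716295 (.node 11272193 [] (.cons 11272201 (.node 8454158 [] (.cons 8458254 (.node 11337728 [] (.cons 11337730 (.node 8716305 [] (.cons 10813457 (.node 8982529 [] (.cons 8982545 (.node 8650777 [] (.cons 8650779 (.node 8388631 [] (.cons 8392727 (.leaf 984655709243026814037783456835012640 []) .nil)) .nil)) .nil)) .nil)) .nil)) .nil)) .nil)) .nil)) .nil)) .nil)) .nil)) .nil)) .nil)) .nil)) .nil)) .nil)) .nil)) .nil)) .nil)) .nil)) .nil)) .nil)) .nil)) .nil)) .nil)) .nil)) .nil)) .nil)) .nil)) .nil)) .nil)) .nil)) .nil)) .nil)) .nil)) (.cons 10551324 (.node 10489876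 [] (.cons 10752020 (.node 11014160 [] (.cons 11014168 (.node 8654853 [] (.cons 9179141 (.node 9175057 [] (.cons 11272209 (.node 10747910 [] (.cons 10747918 (.node 10485773 [] (.cons 11010061 (.node 8392730 [] (.cons 8654874 (.node 8650774 [] (.cons 8650775 (.node 10555396 [] (.cons 11079684 (.node 8916998 [] (.cons 8917006 (.node 9175046 [] (.cons 9240582 (.node 9179138 [] (.cons 11276290 (.node 9179152 [] (.cons 9244688 (.node 9240584 [] (.cons 11337736 (.node 9175052 [] (.cons 9175068 (.node 8982536 [] (.cons 8982537 (.node 8654857 [] (.cons 10752009 (.node 8716297 [] (.cons 8716313 (.node 11075585 [] (.cons 11075587 (.node 10489859 [] (.cons 10489863 (.node 10555393 [] (.cons 10555409 (.node 8454170 [] (.cons 8978458 (.node 8458258 [] (.cons 8458262 (.node 8392717 [] (.cons 8392733 (.node 8716293 [] (.cons 10813445 (.node 10485786 [] (.cons 10485787 (.node 8454151 [] (.cons 8454159 (.node 8912907 [] (.cons 9175051 (.node 10551306 [] (.cons 10555402 (.node 10747922 [] (.cons 10813458 (.node 8720385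 [] (.cons 8720387 (.node 8978437 [] (.cons 8978453 (.node 8916995 [] (.cons 8917011 (.node 8720388 [] (.cons 8720396 (.node 11010068 [] (.cons 11010070 (.leaf 984696532902923498815968670912710688 []) .nil)) .nil)) .nil)) .nil)) .nil)) .nil)) .nil)) .nil)) .nil)) .nil)) .nil)) .nil)) .nil)) .nil)) .nil)) .nil)) .nil)) .nil)) .nil)) .nil)) .nil)) .nil)) .nil)) .nil)) .nil)) .nil)) .nil)) .nil)) .nil)) .nil)) .nil)) .nil)) .nil)) .nil)) .nil)) .nil))) .nil)) .nil)) .nil)) .nil)) .nil)) .nil)) .nil)) .nil)) .nil)) .nil)) .nil)) .nil)) .nil)) .nil)) .nil)) .nil)) .nil)) .nil)))) .nil)) .nil)) .nil)) .nil)) .nil)) .nil)) (.cons 10878988 (.node 10620932 [] .nil) .nil))) .nil)) .nil)) .nil)) .nil)) .nil))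

theorem chk24 : chkG (nodeOk P24) (cands P24) (lfG P24 basisL) tr24 [] none = true := by
  decide +kernel
theorem chk23 : chkG (nodeOk P23) (cands P23) (lfG P23 basisL) tr23 [] none = true := by
  decide +kernel
theorem chk22 : chkG (nodeOk P22) (cands P22) (lfG P22 H11) tr22 [] none = true := by
  decide +kernel
theorem chk12 : chkG (nodeOk P12) (cands P12) (lfF P12 hexL) tr12 [] none = true := by
  decide +kernel
theorem chk11 : chkG (nodeOk P11) (cands P11) (lfF P11 hexL11) tr11 [] none = true := by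
  decide +kernel

theorem good24 {B : Set (Finset GolayPt)} (hB : RD P24 B) : Good P24 octads B :=
  chk_sound (lfG_sound even_of_277 fun _ _ h8 h => octad_of_even h8 h) _ _ chk24 B hB (by simp)

theorem good23 {B : Set (Finset GolayPt)} (hB : RD P23 B) : Good P23 octads B :=
  chk_sound (lfG_sound even_of_277 fun _ _ h8 h => octad_of_even h8 h) _ _ chk23 B hB (by simp)

theorem good22 {B : Set (Finset GolayPt)} (hB : RD P22 B) : Good P22 octads B :=
  chk_sound (lfG_sound even_of_277 octad_of_H11) _ _ chk22 B hB (by simp)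

theorem good12 {B : Set (Finset GolayPt)} (hB : RD P12 B) :
    Good P12 (hexadsOn (ofMask dod1)) B := by
  refine chk_sound (lfF_sound (by decide) (by decide +kernel) six_of_95 ?_
    fun m hm => mem_hexadsOn_iff.2 ⟨m, hm, rfl⟩) _ _ chk12 B hB (by simp)
  intro T _ hT h5
  obtain ⟨X, hX, hTX⟩ := exists_hexad dod1_mem hT h5
  obtain ⟨m, hm, rfl⟩ := mem_hexadsOn_iff.1 hX
  exact ⟨m, hm, hTX⟩

theorem good11 {B : Set (Finset GolayPt)} (hB : RD P11 B) :
    Good P11 (hexadsOn (ofMask dod1)) B := by
  refine chk_sound (lfF_sound (by decide) (by decide +kernel) six_of_95 ?_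
    fun m hm => mem_hexadsOn_iff.2 ⟨m, hexL11_spec.1 m hm, rfl⟩) _ _ chk11 B hB (by simp)
  intro T hz hT h5
  obtain ⟨X, hX, hTX⟩ := exists_hexad dod1_mem hT h5
  obtain ⟨m, hm, rfl⟩ := mem_hexadsOn_iff.1 hX
  refine ⟨m, hexL11_spec.2 m hm ?_, hTX⟩
  have h23 : pt 23 ∈ ofMask 8388608 :=
    (pt_mem_ofMask (m := 8388608) (i := 23) (by norm_num)).2 (by decide)
  exact (pt_mem_ofMask (m := m) (i := 23) (by norm_num)).1 (hTX (hz h23))

end H17.Eng
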