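import Mathlib
import Cfsg.Agent.Base
import Cfsg.Agent.Lib.Design.WittTree

/-!
Transfer between abstract Steiner systems and the models on the 24 points.
-/

set_option autoImplicit false
set_option linter.unusedSectionVars false

namespace H17

open H15 Cfsg H17.Eng
open scoped Pointwise

/-- `g` embeds the set system `B` onto the point set `U`, blocks corresponding to the members
of `M` containing `Z`. -/
structure Emb {α : Type*} (Z U : Finset GolayPt) (M : Set (Finset GolayPt)) (B : Set (Finset α))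
    (g : α ↪ GolayPt) : Prop where
  disj : Disjoint Z U
  range : ∀ p, p ∈ U ↔ ∃ a, g a = p
  mem : ∀ b : Finset α, b ∈ B ↔ Z ∪ b.map g ∈ M

variable {α β : Type*} [Fintype α] [DecidableEq α] [Fintype β] [DecidableEq β]

theorem map_subset_of_range {U : Finset GolayPt} {g : α ↪ GolayPt}
    (hr : ∀ p, p ∈ U ↔ ∃ a, g a = p) (b : Finset α) : b.map g ⊆ U := by
  intro p hp
  obtain ⟨a, -, rfl⟩ := Finset.mem_map.1 hp
  exact (hr _).2 ⟨a, rfl⟩

theorem lift_inter {Z U : Finset GolayPt} (hd : Disjoint Z U) {g : α ↪ GolayPt}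
    (hr : ∀ p, p ∈ U ↔ ∃ a, g a = p) (b c : Finset α) :
    ((Z ∪ b.map g) ∩ (Z ∪ c.map g)).card = Z.card + (b ∩ c).card := by
  rw [← Finset.union_inter_distrib_left, ← Finset.map_inter,
    Finset.card_union_of_disjoint (hd.mono_right (map_subset_of_range hr _)), Finset.card_map]

theorem lift_card {Z U : Finset GolayPt} (hd : Disjoint Z U) {g : α ↪ GolayPt}
    (hr : ∀ p, p ∈ U ↔ ∃ a, g a = p) (b : Finset α) :
    (Z ∪ b.map g).card = Z.card + b.card := by
  simpa using lift_inter hd hr b b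

theorem exists_lift {Z U : Finset GolayPt} {g : α ↪ GolayPt}
    (hr : ∀ p, p ∈ U ↔ ∃ a, g a = p) {X : Finset GolayPt} (h1 : Z ⊆ X) (h2 : X ⊆ Z ∪ U) :
    ∃ b : Finset α, X = Z ∪ (b.filter fun a => g a ∉ Z).map g ∧
      ∀ a, a ∈ b ↔ g a ∈ X := by
  refine ⟨Finset.univ.filter fun a => g a ∈ X, ?_, by simp⟩
  ext p
  simp only [Finset.mem_union, Finset.mem_map, Finset.mem_filter, Finset.mem_univ, true_and]
  constructor
  · intro hp
    by_cases hz : p ∈ Z
    · exact Or.inl hz
    · obtain ⟨a, rfl⟩ := (hr p).1 ((Finset.mem_union.1 (h2 hp)).resolve_left hz)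
      exact Or.inr ⟨a, ⟨hp, hz⟩, rfl⟩
  · rintro (h | ⟨a, ⟨h, -⟩, rfl⟩)
    exacts [h1 h, h]

theorem exists_lift' {Z U : Finset GolayPt} (hd : Disjoint Z U) {g : α ↪ GolayPt}
    (hr : ∀ p, p ∈ U ↔ ∃ a, g a = p) {X : Finset GolayPt} (h1 : Z ⊆ X) (h2 : X ⊆ Z ∪ U) :
    ∃ b : Finset α, X = Z ∪ b.map g := by
  obtain ⟨b, hb, -⟩ := exists_lift hr h1 h2
  exact ⟨_, hb⟩

/-- From the search engine to an embedding into the model. -/
theorem exists_emb {P : Par} {M : Set (Finset GolayPt)} (hzw : ofMask P.z ⊆ ofMask P.w)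
    (hgood : ∀ B, RD P B → Good P M B) (hMc : ∀ X ∈ M, X.card = P.k)
    (hMu : ∀ X ∈ M, ∀ Y ∈ M, 5 ≤ (X ∩ Y).card → X = Y) {t k : ℕ} {B : Set (Finset α)}
    (hB : IsSteinerSystem t k B) (ht : wt P.z + t = 5) (hk : wt P.z + k = P.k) (htk : t ≤ k)
    (hα : Fintype.card α + wt P.z = wt P.w)
    (hok : ∀ b ∈ B, ∀ c ∈ B, P.okm.testBit (wt P.z + (b ∩ c).card) = true) :
    ∃ g : α ↪ GolayPt, Emb (ofMask P.z) (ofMask P.w \ ofMask P.z) M B g := by
  set Z := ofMask P.z with hZ
  set U := ofMask P.w \ ofMask P.z with hU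
  have hd : Disjoint Z U := Finset.disjoint_sdiff
  have hZU : Z ∪ U = ofMask P.w := Finset.union_sdiff_of_subset hzw
  have hZc : Z.card = wt P.z := card_ofMask _
  have hUc : Fintype.card α = Fintype.card U := by
    rw [Fintype.card_coe, hU, Finset.card_sdiff_of_subset hzw, card_ofMask, card_ofMask]; omega
  let e : α ≃ U := Fintype.equivOfCardEq hUc
  let f : α ↪ GolayPt := e.toEmbedding.trans (Function.Embedding.subtype _)
  have hr : ∀ p, p ∈ U ↔ ∃ a, f a = p := fun p =>
    ⟨fun hp => ⟨e.symm ⟨p, hp⟩, by simp [f]⟩, fun ⟨a, ha⟩ => ha ▸ (e a).2⟩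
  have hRD : RD P ((fun b : Finset α => Z ∪ b.map f) '' B) := by
    refine ⟨?_, ?_, ?_, ?_⟩
    · rintro _ ⟨b, -, rfl⟩
      refine ⟨Finset.subset_union_left, ?_⟩
      rw [← hZU]
      exact Finset.union_subset_union_right (map_subset_of_range hr b)
    · rintro _ ⟨b, hb, rfl⟩
      rw [lift_card hd hr, hZc, hB.1 b hb, hk]
    · intro T h1 h2 h5
      obtain ⟨s, rfl⟩ := exists_lift' hd hr h1 (hZU ▸ h2)
      rw [lift_card hd hr, hZc] at h5
      obtain ⟨b, hb, hsb⟩ := steiner_exists hB (s := s) (by omega)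
      exact ⟨_, ⟨b, hb, rfl⟩, Finset.union_subset_union_right (Finset.map_subset_map.2 hsb)⟩
    · rintro _ ⟨b, hb, rfl⟩ _ ⟨c, hc, rfl⟩
      rw [lift_inter hd hr, hZc]
      exact hok b hb c hc
  obtain ⟨σ, hσ, hM⟩ := hgood _ hRD
  have hσZ : σ • Z = Z := smul_eq_of_fix hσ.2
  have hσU : σ • U = U := by rw [hU, smul_sdiff, hσ.1, hσZ]
  let g : α ↪ GolayPt := f.trans σ.toEmbedding
  have hr' : ∀ p, p ∈ U ↔ ∃ a, g a = p := by
    intro p
    rw [← hσU, mem_smul_finset_iff, hr]
    refine exists_congr fun a => ?_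
    show f a = σ⁻¹ p ↔ σ (f a) = p
    rw [Equiv.Perm.eq_inv_iff_eq]
  have hg : ∀ b : Finset α, Z ∪ b.map g = σ • (Z ∪ b.map f) := by
    intro b
    rw [smul_union, hσZ]
    congr 1
    ext p
    simp only [mem_smul_finset_iff, Finset.mem_map]
    refine exists_congr fun a => and_congr_right fun _ => ?_
    show σ (f a) = p ↔ f a = σ⁻¹ p
    rw [Equiv.Perm.eq_inv_iff_eq]
  have h1 : ∀ b ∈ B, Z ∪ b.map g ∈ M := fun b hb => by rw [hg]; exact hM _ ⟨b, hb, rfl⟩
  refine ⟨g, hd, hr', fun b => ⟨h1 b, fun hb => ?_⟩⟩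
  have hc := hMc _ hb
  rw [lift_card hd hr', hZc] at hc
  obtain ⟨s, hsb, hs⟩ := Finset.exists_subset_card_eq (s := b) (n := t) (by omega)
  obtain ⟨c, hcB, hsc⟩ := steiner_exists hB hs
  have h5 : t ≤ (b ∩ c).card := hs ▸ Finset.card_le_card (Finset.subset_inter hsb hsc)
  have := hMu _ hb _ (h1 c hcB) (by rw [lift_inter hd hr', hZc]; omega)
  have h2 := lift_inter hd hr' b c
  rw [← this, Finset.inter_self, lift_card hd hr'] at h2
  have h3 := hB.1 c hcB
  have e1 : b ∩ c = b := Finset.eq_of_subset_of_card_le Finset.inter_subset_left (by omega)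
  have e2 : b ∩ c = c := Finset.eq_of_subset_of_card_le Finset.inter_subset_right (by omega)
  rw [← e1, e2]; exact hcB

theorem Emb.exists_equiv {Z U : Finset GolayPt} {M : Set (Finset GolayPt)} {B : Set (Finset α)}
    {B' : Set (Finset β)} {g : α ↪ GolayPt} {g' : β ↪ GolayPt} (h : Emb Z U M B g)
    (h' : Emb Z U M B' g') :
    ∃ e : α ≃ β, (∀ a, g' (e a) = g a) ∧ ∀ b : Finset α, b ∈ B ↔ b.image e ∈ B' := by
  choose u hu using fun a => (h'.range (g a)).1 ((h.range _).2 ⟨a, rfl⟩)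
  choose v hv using fun a => (h.range (g' a)).1 ((h'.range _).2 ⟨a, rfl⟩)
  let e : α ≃ β := ⟨u, v, fun a => g.injective (by rw [hv, hu]),
    fun a => g'.injective (by rw [hu, hv])⟩
  refine ⟨e, hu, fun b => ?_⟩
  rw [h.mem, h'.mem]
  have : (b.image e).map g' = b.map g := by
    rw [Finset.map_eq_image, Finset.map_eq_image, Finset.image_image]
    exact Finset.image_congr fun a _ => hu a
  rw [this]

theorem iso_of_equiv {B : Set (Finset α)} {B' : Set (Finset β)} (e : α ≃ β)
    (he : ∀ b : Finset α, b ∈ B ↔ b.image e ∈ B') : SetSystemIso B B' := by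
  refine ⟨e, ?_⟩
  ext c
  constructor
  · rintro ⟨b, hb, rfl⟩
    exact (he b).1 hb
  · intro hc
    have : (c.image e.symm).image e = c := by
      rw [Finset.image_image]; simp
    exact ⟨c.image e.symm, (he _).2 (this.symm ▸ hc), this⟩

theorem Emb.iso {Z U : Finset GolayPt} {M : Set (Finset GolayPt)} {B : Set (Finset α)}
    {B' : Set (Finset β)} {g : α ↪ GolayPt} {g' : β ↪ GolayPt} (h : Emb Z U M B g)
    (h' : Emb Z U M B' g') : SetSystemIso B B' := by
  obtain ⟨e, -, he⟩ := h.exists_equiv h'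
  exact iso_of_equiv e he

theorem mem_aut_iff {B : Set (Finset α)} {τ : Equiv.Perm α} :
    τ ∈ setSystemAut B ↔ ∀ b ∈ B, τ • b ∈ B := by
  show τ • B = B ↔ _
  constructor
  · intro h b hb
    rw [← h]; exact Set.smul_mem_smul_set hb
  · intro h
    apply Set.eq_of_subset_of_ncard_le
    · rintro _ ⟨b, hb, rfl⟩; exact h b hb
    · rw [Set.ncard_smul_set]
    · exact Set.toFinite _

/-- Identification of the automorphism group with a group of permutations of the 24 points. -/
theorem Emb.aut_equiv {Z U : Finset GolayPt} {M : Set (Finset GolayPt)} {B : Set (Finset α)}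
    {g : α ↪ GolayPt} (h : Emb Z U M B g) (H : Subgroup (Equiv.Perm GolayPt))
    (hU : ∀ x ∈ H, x • U = U) (hZ : ∀ x ∈ H, x • Z = Z) (hM : ∀ x ∈ H, ∀ X ∈ M, x • X ∈ M)
    (hinj : ∀ x ∈ H, (∀ p ∈ U, x p = p) → x = 1)
    (hsurj : ∀ σ : Equiv.Perm GolayPt, (∀ p ∉ U, σ p = p) →
      (∀ X ∈ M, Z ⊆ X → X ⊆ Z ∪ U → σ • X ∈ M) → ∃ x ∈ H, ∀ p ∈ U, x p = σ p) :
    ∃ φ : H ≃* setSystemAut B, ∀ (x : H) (a : α),
      g ((φ x : Equiv.Perm α) a) = (x : Equiv.Perm GolayPt) (g a) := by
  have hmem : ∀ (x : H) (a : α), ∃ a', g a' = (x : Equiv.Perm GolayPt) (g a) := fun x a =>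
    (h.range _).1 ((apply_mem_of_smul_eq (hU x x.2)).2 ((h.range _).2 ⟨a, rfl⟩))
  choose u hu using hmem
  let ψ : H →* Equiv.Perm α := MonoidHom.toHomPerm
    { toFun := fun x => u x
      map_one' := by funext a; exact g.injective (hu 1 a)
      map_mul' := fun x y => by
        funext a
        apply g.injective
        show g (u (x * y) a) = g (u x (u y a))
        rw [hu, hu, hu]; rfl }
  have hψ : ∀ (x : H) (a : α), g (ψ x a) = (x : Equiv.Perm GolayPt) (g a) := hu
  have hlift : ∀ (τ : Equiv.Perm α) (σ : Equiv.Perm GolayPt), (∀ a, g (τ a) = σ (g a)) →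
      σ • Z = Z → ∀ b : Finset α, Z ∪ (τ • b).map g = σ • (Z ∪ b.map g) := by
    intro τ σ hτ hσ b
    rw [smul_union, hσ]
    congr 1
    ext p
    simp only [Finset.mem_map, Finset.mem_smul_finset, Equiv.Perm.smul_def]
    constructor
    · rintro ⟨_, ⟨a, ha, rfl⟩, rfl⟩
      exact ⟨g a, ⟨a, ha, rfl⟩, (hτ a).symm⟩
    · rintro ⟨_, ⟨a, ha, rfl⟩, rfl⟩
      exact ⟨τ a, ⟨a, ha, rfl⟩, hτ a⟩
  have hin : ∀ x : H, ψ x ∈ setSystemAut B := fun x => mem_aut_iff.2 fun b hb => by
    rw [h.mem, hlift _ _ (hψ x) (hZ x x.2)]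
    exact hM x x.2 _ ((h.mem b).1 hb)
  let ψ' : H →* setSystemAut B := ψ.codRestrict _ hin
  have hbij : Function.Bijective ψ' := by
    constructor
    · rw [injective_iff_map_eq_one]
      intro x hx
      have hx : ψ x = 1 := congrArg Subtype.val hx
      refine Subtype.ext (hinj x x.2 fun p hp => ?_)
      obtain ⟨a, rfl⟩ := (h.range p).1 hp
      rw [← hψ, hx]; rfl
    · rintro ⟨τ, hτ⟩
      let σ : Equiv.Perm GolayPt := τ.viaEmbedding g
      have hσ1 : ∀ a, g (τ a) = σ (g a) := fun a => (Equiv.Perm.viaEmbedding_apply τ g a).symm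
      have hσ2 : ∀ p ∉ U, σ p = p := fun p hp =>
        Equiv.Perm.viaEmbedding_apply_of_notMem τ g p fun ⟨a, ha⟩ => hp ((h.range p).2 ⟨a, ha⟩)
      have hσZ : σ • Z = Z := smul_eq_of_fix fun p hp => hσ2 p (Finset.disjoint_left.1 h.disj hp)
      obtain ⟨x, hx, hxσ⟩ := hsurj σ hσ2 (fun X hX h1 h2 => by
        obtain ⟨b, rfl⟩ := exists_lift' h.disj h.range h1 h2
        rw [← hlift τ σ hσ1 hσZ, ← h.mem]
        exact mem_aut_iff.1 hτ b ((h.mem b).2 hX))
      refine ⟨⟨x, hx⟩, Subtype.ext (Equiv.ext fun a => g.injective ?_)⟩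
      show g (ψ ⟨x, hx⟩ a) = g (τ a)
      rw [hψ, hσ1]
      exact hxσ _ ((h.range _).2 ⟨a, rfl⟩)
  exact ⟨MulEquiv.ofBijective ψ' hbij, hψ⟩

/-- Transfer of multiple transitivity along such an identification. -/
theorem multi_of_equiv {B : Set (Finset α)} {g : α ↪ GolayPt} {H : Subgroup (Equiv.Perm GolayPt)}
    (φ : H ≃* setSystemAut B) (hφ : ∀ (x : H) (a : α),
      g ((φ x : Equiv.Perm α) a) = (x : Equiv.Perm GolayPt) (g a)) (k : ℕ)
    (ht : ∀ x y : Fin k → α, Function.Injective x → Function.Injective y →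
      ∃ h ∈ H, ∀ i, h (g (x i)) = g (y i)) :
    MulAction.IsMultiplyPretransitive (setSystemAut B) α k := by
  rw [MulAction.isMultiplyPretransitive_iff]
  intro x y
  obtain ⟨h, hh, hxy⟩ := ht x y x.injective y.injective
  refine ⟨φ ⟨h, hh⟩, Function.Embedding.ext fun i => g.injective ?_⟩
  exact (hφ ⟨h, hh⟩ (x i)).trans (hxy i)

/-! ### The five designs -/

theorem wt_0 : wt 0 = 0 := by decide +kernel
theorem wt_z23 : wt 8388608 = 1 := by decide +kernel
theorem wt_full : wt 16777215 = 24 := by decide +kernel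
theorem wt_dod1 : wt 11472927 = 12 := by decide +kernel

theorem emb24 (hα : Fintype.card α = 24) {B : Set (Finset α)} (hB : IsSteinerSystem 5 8 B) :
    ∃ g : α ↪ GolayPt, Emb (ofMask 0) (ofMask 16777215 \ ofMask 0) octads B g := by
  refine exists_emb (P := P24) (ofMask_subset_of_land rfl) (fun _ => good24) (fun X hX => hX.2)
    (fun X hX Y hY => octad_eq_of_five hX hY) hB (congrArg (· + 5) wt_0) (congrArg (· + 8) wt_0)
    (by norm_num) ?_ ?_
  · show _ + wt 0 = wt 16777215
    rw [wt_0, wt_full, hα]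
  · intro b hb c hc
    show (277 : ℕ).testBit (wt 0 + _) = true
    rw [wt_0]
    by_cases h : b = c
    · subst h; rw [Finset.inter_self, hB.1 b hb]; decide
    · rcases w24_inter hα hB hb hc h with h | h | h <;> rw [h] <;> decide

theorem emb23 (hα : Fintype.card α = 23) {B : Set (Finset α)} (hB : IsSteinerSystem 4 7 B) :
    ∃ g : α ↪ GolayPt, Emb (ofMask 8388608) (ofMask 16777215 \ ofMask 8388608) octads B g := by
  refine exists_emb (P := P23) (ofMask_subset_of_land rfl) (fun _ => good23) (fun X hX => hX.2)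
    (fun X hX Y hY => octad_eq_of_five hX hY) hB (congrArg (· + 4) wt_z23)
    (congrArg (· + 7) wt_z23) (by norm_num) ?_ ?_
  · show _ + wt 8388608 = wt 16777215
    rw [wt_z23, wt_full, hα]
  · intro b hb c hc
    show (277 : ℕ).testBit (wt 8388608 + _) = true
    rw [wt_z23]
    by_cases h : b = c
    · subst h; rw [Finset.inter_self, hB.1 b hb]; decide
    · rcases w23_inter hα hB hb hc h with h | h <;> rw [h] <;> decide

theorem emb22 (hα : Fintype.card α = 22) {B : Set (Finset α)} (hB : IsSteinerSystem 3 6 B) :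
    ∃ g : α ↪ GolayPt, Emb (ofMask 12582912) (ofMask 16777215 \ ofMask 12582912) octads B g := by
  refine exists_emb (P := P22) (ofMask_subset_of_land rfl) (fun _ => good22) (fun X hX => hX.2)
    (fun X hX Y hY => octad_eq_of_five hX hY) hB (congrArg (· + 3) wt_z22)
    (congrArg (· + 6) wt_z22) (by norm_num) ?_ ?_
  · show _ + wt 12582912 = wt 16777215
    rw [wt_z22, wt_full, hα]
  · intro b hb c hc
    show (277 : ℕ).testBit (wt 12582912 + _) = true
    rw [wt_z22]
    by_cases h : b = c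
    · subst h; rw [Finset.inter_self, hB.1 b hb]; decide
    · rcases w22_inter hα hB hb hc h with h | h <;> rw [h] <;> decide

theorem emb12 (hα : Fintype.card α = 12) {B : Set (Finset α)} (hB : IsSteinerSystem 5 6 B) :
    ∃ g : α ↪ GolayPt,
      Emb (ofMask 0) (ofMask 11472927 \ ofMask 0) (hexadsOn (ofMask dod1)) B g := by
  refine exists_emb (P := P12) (ofMask_subset_of_land rfl) (fun _ => good12) (fun X hX => hX.1)
    (fun X hX Y hY => hexad_eq_of_five hX hY) hB (congrArg (· + 5) wt_0) (congrArg (· + 6) wt_0)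
    (by norm_num) ?_ ?_
  · show _ + wt 0 = wt 11472927
    rw [wt_0, wt_dod1, hα]
  · intro b hb c hc
    show (95 : ℕ).testBit (wt 0 + _) = true
    rw [wt_0]
    by_cases h : b = c
    · subst h; rw [Finset.inter_self, hB.1 b hb]; decide
    · have := steiner_inter_lt hB hb hc h
      generalize (b ∩ c).card = i at this
      interval_cases i <;> decide

theorem emb11 (hα : Fintype.card α = 11) {B : Set (Finset α)} (hB : IsSteinerSystem 4 5 B) :
    ∃ g : α ↪ GolayPt,
      Emb (ofMask 8388608) (ofMask 11472927 \ ofMask 8388608) (hexadsOn (ofMask dod1)) B g := by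
  refine exists_emb (P := P11) (ofMask_subset_of_land rfl) (fun _ => good11) (fun X hX => hX.1)
    (fun X hX Y hY => hexad_eq_of_five hX hY) hB (congrArg (· + 4) wt_z23)
    (congrArg (· + 5) wt_z23) (by norm_num) ?_ ?_
  · show _ + wt 8388608 = wt 11472927
    rw [wt_z23, wt_dod1, hα]
  · intro b hb c hc
    show (95 : ℕ).testBit (wt 8388608 + _) = true
    rw [wt_z23]
    by_cases h : b = c
    · subst h; rw [Finset.inter_self, hB.1 b hb]; decide
    · have := steiner_inter_lt hB hb hc h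
      generalize (b ∩ c).card = i at this
      interval_cases i <;> decide

end H17
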