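import Mathlib
import Cfsg.Agent.Base
import Cfsg.Agent.Lib.Design.Transfer
import Cfsg.Agent.Lib.Golay.Mathieu

/-!
The automorphism groups of the five Witt designs are the Mathieu groups.
-/

set_option autoImplicit false
set_option linter.unusedSectionVars false
set_option maxRecDepth 100000

namespace H17

open H15 Cfsg H17.Eng
open scoped Pointwise

theorem mem_M24_of_span {L : List ℕ} (hb : ∀ b ∈ basisL, ∃ u, b = encL L u)
    {g : Equiv.Perm GolayPt} (h : ∀ c ∈ L, g • ofMask c ∈ CodeSets) : g ∈ M24 := by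
  refine mem_M24_of_basis fun b hb' => ?_
  obtain ⟨u, rfl⟩ := hb b hb'
  exact encL_induction (P := fun m => g • ofMask m ∈ CodeSets)
    (by rw [ofMask_zero, Finset.smul_finset_empty]; exact empty_mem_codeSets)
    (fun a b ha hb => by rw [ofMask_xor', smul_symmDiff]; exact symmDiff_mem_codeSets ha hb) L h u

/-- twelve independent octads through the point 23 -/
def H23 : List ℕ := [13062145, 9347075, 13938692, 11100169, 10170384, 11952160, 15515712, 14254209, 11731203, 12325377, 11654144, 14919680]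

theorem basis_of_H23 : ∀ b ∈ basisL,
    ∃ u ∈ ([1, 3, 4, 9, 16, 32, 64, 129, 258, 513, 1024, 2048] : List ℕ), b = encL H23 u := by
  decide +kernel

theorem H23_spec : ∀ h ∈ H23, isOctad h = true ∧ Nat.land 8388608 h = 8388608 := by
  decide +kernel

theorem z23_eq : ofMask 8388608 = {none} := ofMask_two_pow (i := 23) (by norm_num)

theorem z22_eq : ofMask 12582912 = {none, pt 22} := by decide +kernel

/-- A permutation mapping the octads through `∞` to code sets lies in `M24`. -/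
theorem mem_M24_of_octads_thru {g : Equiv.Perm GolayPt}
    (h : ∀ X ∈ octads, none ∈ X → g • X ∈ octads) : g ∈ M24 :=
  mem_M24_of_span (fun b hb => let ⟨u, _, e⟩ := basis_of_H23 b hb; ⟨u, e⟩) fun c hc =>
    (h _ (ofMask_mem_octads (H23_spec c hc).1) (ofMask_subset_of_land (H23_spec c hc).2
      (by rw [z23_eq]; exact Finset.mem_singleton_self _))).1

/-- A permutation fixing two points and preserving the octads through them lies in `M24`,
possibly after swapping the two points. -/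
theorem mem_M24_or_swap {σ : Equiv.Perm GolayPt} (h23 : σ none = none) (h22 : σ (pt 22) = pt 22)
    (h : ∀ X ∈ octads, ofMask 12582912 ⊆ X → σ • X ∈ octads) :
    σ ∈ M24 ∨ Equiv.swap none (pt 22) * σ ∈ M24 := by
  have hZ : σ • ofMask 12582912 = ofMask 12582912 := smul_eq_of_fix fun p hp => by
    rw [z22_eq] at hp
    rcases Finset.mem_insert.1 hp with rfl | hp
    · exact h23
    · rw [Finset.mem_singleton.1 hp, h22]
  have hA : σ ∈ setSystemAut {X | X ∈ octads ∧ ofMask 12582912 ⊆ X} :=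
    mem_setSystemAut_iff.2 fun X hX =>
      ⟨h X hX.1 hX.2, by rw [← hZ]; exact (smul_subset_smul_iff _ _ _).2 hX.2⟩
  have hA' := mem_setSystemAut_iff.1 (inv_mem hA)
  have hH : ∀ c ∈ H11, ofMask c ∈ octads ∧ ofMask 12582912 ⊆ ofMask c := fun c hc =>
    ⟨ofMask_mem_octads (H11_spec c hc).1, ofMask_subset_of_land (H11_spec c hc).2⟩
  have h12o : ofMask h12 ∈ octads := ofMask_mem_octads (by decide +kernel)
  have h12a : none ∈ ofMask h12 := by decide +kernel
  have h12b : pt 22 ∉ ofMask h12 := by decide +kernel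
  have hne : (none : GolayPt) ≠ pt 22 := by decide
  have hb : ∀ b ∈ basisL, ∃ u, b = encL (h12 :: H11) u :=
    fun b hb => let ⟨u, _, e⟩ := basis_of_H11 b hb; ⟨u, e⟩
  generalize hO : ofMask h12 = O at h12o h12a h12b
  have hev : ∀ c ∈ H11, Even (σ • O ∩ ofMask c).card := fun c hc => by
    rw [← card_smul σ⁻¹, smul_inter, inv_smul_smul]
    exact even_card_inter h12o.1 (hA' _ (hH c hc)).1.1
  have hYa : none ∈ σ • O := by rw [← h23, apply_mem_smul_iff]; exact h12a
  have hYb : pt 22 ∉ σ • O := by rw [← h22, apply_mem_smul_iff]; exact h12b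
  by_cases he : Even (σ • O ∩ O).card
  · left
    refine mem_M24_of_span hb fun c hc => ?_
    rcases List.mem_cons.1 hc with rfl | hc
    · rw [hO]
      exact (octad_of_even (by rw [card_smul, h12o.2]) (even_basis_of_H11 hev (hO ▸ he))).1
    · exact (h _ (hH c hc).1 (hH c hc).2).1
  · right
    have hsw : ∀ X : Finset GolayPt, ofMask 12582912 ⊆ X → Equiv.swap none (pt 22) • X = X :=
      fun X hX => swap_smul_eq (iff_of_true (hX (by rw [z22_eq]; simp)) (hX (by rw [z22_eq]; simp)))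
    refine mem_M24_of_span hb fun c hc => ?_
    rw [mul_smul]
    rcases List.mem_cons.1 hc with rfl | hc
    · rw [hO]
      refine (octad_of_even (by rw [card_smul, card_smul, h12o.2])
        (even_basis_of_H11 (fun c hc => ?_) ?_)).1
      · rw [← hsw _ (hH c hc).2, ← smul_inter, card_smul]
        exact hev c hc
      · rw [hO]
        have e : Equiv.swap none (pt 22) • σ • O ∩ O = (σ • O ∩ O).erase none := by
          ext p
          rw [Finset.mem_erase, Finset.mem_inter, Finset.mem_inter, mem_smul_finset_iff _ (σ • O),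
            Equiv.swap_inv, Equiv.swap_apply_def]
          split_ifs with a1 a2
          · simp [a1, hYb]
          · simp [a2, h12b]
          · simp [a1]
        rw [e, Finset.card_erase_of_mem (Finset.mem_inter.2 ⟨hYa, h12a⟩)]
        have := Finset.card_pos.2 ⟨_, Finset.mem_inter.2 ⟨hYa, h12a⟩⟩
        rw [Nat.even_iff] at he ⊢
        omega
    · rw [hsw _ (mem_setSystemAut_iff.1 hA _ (hH c hc)).2]
      exact (h _ (hH c hc).1 (hH c hc).2).1

/-! ### Hexads -/

theorem hexad_subset {d X : Finset GolayPt} (hX : X ∈ hexadsOn d) : X ⊆ d := by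
  obtain ⟨-, o, -, rfl⟩ := hX
  exact Finset.inter_subset_right

theorem hexad_compl {d X : Finset GolayPt} (hd : d ∈ dodecads) (hX : X ∈ hexadsOn d) :
    d \ X ∈ hexadsOn d := by
  have hc := Finset.card_sdiff_of_subset (hexad_subset hX)
  obtain ⟨h6, o, ho, rfl⟩ := hX
  refine ⟨by rw [hc, h6, hd.2], symmDiff o d, ⟨symmDiff_mem_codeSets ho.1 hd.1, ?_⟩, ?_⟩
  · have := card_symmDiff_add o d
    rw [h6, ho.2, hd.2] at this
    omega
  · ext p
    simp only [Finset.mem_inter, Finset.mem_symmDiff, Finset.mem_sdiff]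
    tauto

theorem smul_mem_hexadsOn {g : Equiv.Perm GolayPt} (hg : g ∈ M24) {d X : Finset GolayPt}
    (hd : g • d = d) (hX : X ∈ hexadsOn d) : g • X ∈ hexadsOn d := by
  obtain ⟨h6, o, ho, rfl⟩ := hX
  exact ⟨by rw [card_smul, h6], g • o, smul_mem_octads hg ho, by rw [smul_inter, hd]⟩

theorem fix_of_sdiff {ρ : Equiv.Perm GolayPt} {S F : Finset GolayPt} {p : GolayPt}
    (hS : ρ • S = S) (hF : ∀ q ∈ F, ρ q = q) (h : S \ F = {p}) : ρ p = p := by
  have : ρ • (S \ F) = S \ F := by rw [smul_sdiff, hS, smul_eq_of_fix hF]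
  rw [h] at this
  exact Finset.mem_singleton.1 ((apply_mem_of_smul_eq this).2 (Finset.mem_singleton_self _))

/-- test used in the rigidity of the hexad system -/
def rigChk (x y : ℕ) : Bool :=
  memL x hexL && memL y hexL && Nat.beq (Nat.land x 2953232) (Nat.land y 2953232) &&
    allL (fun a => !(Nat.beq (Nat.land a 8519695) (Nat.land x 8519695)) || allL (fun b =>
      !(Nat.beq (Nat.land b 8519695) (Nat.land y 8519695) &&
        Nat.beq (Nat.land a 2953232) (Nat.land b 2953232)) || Nat.beq a x) hexL) hexL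

theorem land_lt24 (a : ℕ) {b : ℕ} (hb : b < 2 ^ 24) : Nat.land a b < 2 ^ 24 :=
  lt_of_le_of_lt Nat.and_le_right hb

theorem rigChk_sound {x y : ℕ} (h : rigChk x y = true) {ρ : Equiv.Perm GolayPt}
    (hρ : ∀ X ∈ hexadsOn (ofMask dod1), ρ • X ∈ hexadsOn (ofMask dod1))
    (hF : ∀ p ∈ ofMask 8519695, ρ p = p) (hC : ρ • ofMask 2953232 = ofMask 2953232) :
    ρ • ofMask x = ofMask x := by
  simp only [rigChk, Bool.and_eq_true, memL_iff, Nat.beq_eq, allL_iff, Bool.or_eq_true,
    Bool.not_eq_true', ← Bool.not_eq_true, Bool.and_eq_true] at h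
  obtain ⟨⟨⟨hx, hy⟩, hxy⟩, h⟩ := h
  obtain ⟨a, ha, ea⟩ := mem_hexadsOn_iff.1 (hρ _ (mem_hexadsOn_iff.2 ⟨x, hx, rfl⟩))
  obtain ⟨b, hb, eb⟩ := mem_hexadsOn_iff.1 (hρ _ (mem_hexadsOn_iff.2 ⟨y, hy, rfl⟩))
  have key : ∀ {a x : ℕ}, ofMask a = ρ • ofMask x →
      Nat.land a 8519695 = Nat.land x 8519695 := fun {a x} e => by
    apply ofMask_inj (land_lt24 _ (by norm_num)) (land_lt24 _ (by norm_num))
    rw [ofMask_land, ofMask_land, e, ← smul_eq_of_fix hF, ← smul_inter, smul_eq_of_fix hF]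
    exact smul_eq_of_fix fun p hp => hF p (Finset.mem_inter.1 hp).2
  have k2 : Nat.land a 2953232 = Nat.land b 2953232 := by
    apply ofMask_inj (land_lt24 _ (by norm_num)) (land_lt24 _ (by norm_num))
    rw [ofMask_land, ofMask_land, ea, eb, ← hC, ← smul_inter, ← smul_inter, ← ofMask_land,
      ← ofMask_land, hxy]
  rcases h a ha with h | h
  · exact absurd (key ea) h
  · rcases h b hb with h | h
    · exact absurd ⟨key eb, k2⟩ h
    · rw [← ea, h]

theorem rig_check : ∀ e ∈ ([(4127, 8523795), (200715, 8458253), (458759, 8716299),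
    (917518, 9175053), (2752523, 11010055), (2228247, 10485789)] : List (ℕ × ℕ)),
    rigChk e.1 e.2 = true := by decide +kernel

/-- An automorphism of the hexad system on `dod1` fixing five points fixes all twelve. -/
theorem hexad_rigid {ρ : Equiv.Perm GolayPt} (hd : ρ • ofMask dod1 = ofMask dod1)
    (hρ : ∀ X ∈ hexadsOn (ofMask dod1), ρ • X ∈ hexadsOn (ofMask dod1))
    (h5 : ∀ i, ρ (base5 i) = base5 i) : ∀ p ∈ ofMask dod1, ρ p = p := by
  have hH : ofMask 8519695 ∈ hexadsOn (ofMask dod1) :=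
    mem_hexadsOn_iff.2 ⟨_, by decide +kernel, rfl⟩
  have hF : ∀ p ∈ ofMask 8388623, ρ p = p := by
    have : ∀ p ∈ ofMask 8388623, ∃ i, base5 i = p := by decide +kernel
    intro p hp
    obtain ⟨i, rfl⟩ := this p hp
    exact h5 i
  have hsub : ofMask 8388623 ⊆ ofMask 8519695 := ofMask_subset_of_land rfl
  have hHH : ρ • ofMask 8519695 = ofMask 8519695 := by
    refine hexad_eq_of_five (hρ _ hH) hH ?_
    have h5' : (ofMask 8388623).card = 5 := by decide +kernel
    rw [← h5']
    refine Finset.card_le_card (Finset.subset_inter ?_ hsub)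
    rw [← smul_eq_of_fix hF]
    exact (smul_subset_smul_iff _ _ _).2 hsub
  have h17 : ρ (pt 17) = pt 17 := fix_of_sdiff hHH hF (by decide +kernel)
  have hF' : ∀ p ∈ ofMask 8519695, ρ p = p := by
    have : ∀ p ∈ ofMask 8519695, p ∈ ofMask 8388623 ∨ p = pt 17 := by decide +kernel
    intro p hp
    rcases this p hp with h | rfl
    exacts [hF p h, h17]
  have hC : ρ • ofMask 2953232 = ofMask 2953232 := by
    have : ofMask 2953232 = ofMask dod1 \ ofMask 8519695 := by decide +kernel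
    rw [this, smul_sdiff, hd, hHH]
  have hx : ∀ x ∈ ([4127, 200715, 458759, 917518, 2752523, 2228247] : List ℕ),
      ρ • ofMask x = ofMask x := by
    have : ∀ x ∈ ([4127, 200715, 458759, 917518, 2752523, 2228247] : List ℕ),
      ∃ e ∈ ([(4127, 8523795), (200715, 8458253), (458759, 8716299),
        (917518, 9175053), (2752523, 11010055), (2228247, 10485789)] : List (ℕ × ℕ)), e.1 = x := by
      decide +kernel
    intro x hx
    obtain ⟨e, he, rfl⟩ := this x hx
    exact rigChk_sound (rig_check e he) hρ hF' hC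
  have : ∀ p ∈ ofMask dod1, p ∈ ofMask 8519695 ∨
      ∃ x ∈ ([4127, 200715, 458759, 917518, 2752523, 2228247] : List ℕ),
      ∃ y ∈ ([4127, 200715, 458759, 917518, 2752523, 2228247] : List ℕ),
        (ofMask x ∩ ofMask y) \ ofMask 8519695 = {p} := by decide +kernel
  intro p hp
  rcases this p hp with h | ⟨x, hx', y, hy', h⟩
  · exact hF' p h
  · exact fix_of_sdiff (by rw [smul_inter, hx x hx', hx y hy']) hF' h

/-- Every automorphism of the hexad system on `dod1` is induced by `M24`. -/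
theorem hexad_aut_induced {σ : Equiv.Perm GolayPt} (hd : σ • ofMask dod1 = ofMask dod1)
    (hσ : ∀ X ∈ hexadsOn (ofMask dod1), σ • X ∈ hexadsOn (ofMask dod1)) :
    ∃ x ∈ M24, x • ofMask dod1 = ofMask dod1 ∧ ∀ p ∈ ofMask dod1, x p = σ p := by
  obtain ⟨x, hx, hxd, h⟩ := M24_trans_dodecad_flag dod1_mem dod1_mem base5 (fun i => σ (base5 i))
    base5_injective (σ.injective.comp base5_injective) base5_mem_dod1
    (fun i => (apply_mem_of_smul_eq hd).2 (base5_mem_dod1 i))
  have hxd' : x⁻¹ • ofMask dod1 = ofMask dod1 := by rw [inv_smul_eq_iff, hxd]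
  refine ⟨x, hx, hxd, fun p hp => ?_⟩
  have := hexad_rigid (ρ := x⁻¹ * σ) (by rw [mul_smul, hd, hxd'])
    (fun X hX => by rw [mul_smul]; exact smul_mem_hexadsOn (inv_mem hx) hxd' (hσ X hX))
    (fun i => by rw [Equiv.Perm.mul_apply, ← h i]; simp) p hp
  rw [Equiv.Perm.mul_apply, Equiv.Perm.inv_eq_iff_eq] at this
  exact this.symm

/-! ### The five automorphism groups -/

variable {α : Type*} [Fintype α] [DecidableEq α]

theorem smul_eq_of_fix_compl {σ : Equiv.Perm GolayPt} {U : Finset GolayPt}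
    (h : ∀ p ∉ U, σ p = p) : σ • U = U := by
  have : σ • Uᶜ = Uᶜ := smul_eq_of_fix fun p hp => h p (Finset.mem_compl.1 hp)
  rw [smul_compl] at this
  exact compl_injective this

theorem aut24 (hα : Fintype.card α = 24) {B : Set (Finset α)} (hB : IsSteinerSystem 5 8 B) :
    ∃ g : α ↪ GolayPt, (∀ p, ∃ a, g a = p) ∧ (∀ b : Finset α, b ∈ B ↔ b.map g ∈ octads) ∧
      ∃ φ : M24 ≃* setSystemAut B, ∀ (x : M24) (a : α),
        g ((φ x : Equiv.Perm α) a) = (x : Equiv.Perm GolayPt) (g a) := by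
  obtain ⟨g, h⟩ := emb24 hα hB
  rw [ofMask_full, ofMask_zero, Finset.sdiff_empty] at h
  refine ⟨g, fun p => (h.range p).1 (Finset.mem_univ _), fun b => by simpa using h.mem b, ?_⟩
  refine h.aut_equiv M24 (fun _ _ => Finset.smul_finset_univ) (fun _ _ => Finset.smul_finset_empty _)
    (fun x hx X hX => smul_mem_octads hx hX)
    (fun x _ h => Equiv.ext fun p => h p (Finset.mem_univ _)) (fun σ _ hσ => ?_)
  exact ⟨σ, mem_M24_of_octads fun o ho => hσ o ho (by simp) (by simp), fun _ _ => rfl⟩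

theorem aut23 (hα : Fintype.card α = 23) {B : Set (Finset α)} (hB : IsSteinerSystem 4 7 B) :
    ∃ g : α ↪ GolayPt, (∀ p, p ≠ none ↔ ∃ a, g a = p) ∧
      (∀ b : Finset α, b ∈ B ↔ insert none (b.map g) ∈ octads) ∧
      ∃ φ : Spor.M23 ≃* setSystemAut B, ∀ (x : Spor.M23) (a : α),
        g ((φ x : Equiv.Perm α) a) = (x : Equiv.Perm GolayPt) (g a) := by
  obtain ⟨g, h⟩ := emb23 hα hB
  rw [ofMask_full, z23_eq] at h
  refine ⟨g, fun p => by simpa using h.range p, fun b => by simpa using h.mem b, ?_⟩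
  have hZ : ∀ x ∈ Spor.M23, x • ({none} : Finset GolayPt) = {none} := fun x hx =>
    smul_eq_of_fix fun p hp => by rw [Finset.mem_singleton.1 hp]; exact hx.2
  refine h.aut_equiv Spor.M23 (fun x hx => by rw [smul_sdiff, hZ x hx, Finset.smul_finset_univ]) hZ
    (fun x hx X hX => smul_mem_octads hx.1 hX)
    (fun x hx h => Equiv.ext fun p => ?_) (fun σ h1 hσ => ?_)
  · by_cases hp : p = none
    · rw [hp]; exact hx.2
    · exact h p (by simpa using hp)
  · exact ⟨σ, ⟨mem_M24_of_octads_thru fun o ho hn => hσ o ho (by simpa using hn) (by simp),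
      h1 none (by simp)⟩, fun _ _ => rfl⟩

/-- The stabiliser of the pair `{∞, 22}` in `M24`. -/
def M22d : Subgroup (Equiv.Perm GolayPt) := M24 ⊓ St ({none, pt 22} : Finset GolayPt)

theorem eq_one_of_fix_22 {x : Equiv.Perm GolayPt} (hx : x ∈ M24)
    (h : ∀ p, p ≠ none → p ≠ pt 22 → x p = p) : x = 1 := by
  apply fix_base_eq_one (g := x) hx
  have h5 : ∀ p ∈ ofMask 15, x p = p := by
    have : ∀ p ∈ ofMask 15, p ≠ none ∧ p ≠ pt 22 := by decide +kernel
    exact fun p hp => h p (this p hp).1 (this p hp).2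
  have hO : ofMask h12 ∈ octads := ofMask_mem_octads (by decide +kernel)
  have hF : ∀ p ∈ ofMask h12 \ {none}, x p = p := by
    have : ∀ p ∈ ofMask h12 \ {none}, p ≠ none ∧ p ≠ pt 22 := by decide +kernel
    exact fun p hp => h p (this p hp).1 (this p hp).2
  have h1 : x • ofMask h12 = ofMask h12 :=
    smul_octad_eq hx hO Finset.sdiff_subset (by decide +kernel) (smul_eq_of_fix hF)
  have h2 : x none = none := fix_of_sdiff h1 hF (by decide +kernel)
  rw [mem_fixL]
  have : ∀ i ∈ [5, 4, 3, 2, 1, 0, 23], pt i = none ∨ (pt i ≠ none ∧ pt i ≠ pt 22) := by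
    decide +kernel
  intro i hi
  rcases this i hi with e | e
  · rw [e, h2]
  · exact h _ e.1 e.2

theorem aut22 (hα : Fintype.card α = 22) {B : Set (Finset α)} (hB : IsSteinerSystem 3 6 B) :
    ∃ g : α ↪ GolayPt, (∀ p, (p ≠ none ∧ p ≠ pt 22) ↔ ∃ a, g a = p) ∧
      (∀ b : Finset α, b ∈ B ↔ {none, pt 22} ∪ b.map g ∈ octads) ∧
      ∃ φ : M22d ≃* setSystemAut B, ∀ (x : M22d) (a : α),
        g ((φ x : Equiv.Perm α) a) = (x : Equiv.Perm GolayPt) (g a) := by
  obtain ⟨g, h⟩ := emb22 hα hB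
  rw [ofMask_full, z22_eq] at h
  refine ⟨g, fun p => by simpa using h.range p, h.mem, ?_⟩
  refine h.aut_equiv M22d
    (fun x hx => by rw [smul_sdiff, mem_St_set.1 hx.2, Finset.smul_finset_univ])
    (fun x hx => hx.2) (fun x hx X hX => smul_mem_octads hx.1 hX)
    (fun x hx h => eq_one_of_fix_22 hx.1 fun p a b => h p (by simp [a, b])) (fun σ h1 hσ => ?_)
  have h23 := h1 none (by simp)
  have h22 := h1 (pt 22) (by simp)
  have hZ : σ • ({none, pt 22} : Finset GolayPt) = {none, pt 22} :=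
    smul_eq_of_fix fun p hp => h1 p fun h => (Finset.mem_sdiff.1 h).2 hp
  rcases mem_M24_or_swap h23 h22 (fun X hX hZ => hσ X hX (z22_eq ▸ hZ) (by simp)) with h2 | h2
  · exact ⟨σ, ⟨h2, hZ⟩, fun _ _ => rfl⟩
  · refine ⟨_, ⟨h2, ?_⟩, fun p hp => ?_⟩
    · show (_ * σ) • _ = _
      rw [mul_smul, hZ]
      exact swap_smul_eq (by simp)
    · have hp' : p ≠ none ∧ p ≠ pt 22 := by simpa using hp
      rw [Equiv.Perm.mul_apply, Equiv.swap_apply_of_ne_of_ne (ne_of_fix h23 hp'.1)
        (ne_of_fix h22 hp'.2)]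

theorem stab2_le_M22d : M24 ⊓ St (none : GolayPt) ⊓ St (pt 22) ≤ M22d := fun x hx =>
  ⟨hx.1.1, smul_eq_of_fix fun p hp => by
    rcases Finset.mem_insert.1 hp with rfl | hp
    · exact hx.1.2
    · rw [Finset.mem_singleton.1 hp]; exact hx.2⟩

theorem M22d_inf : M22d ⊓ St (none : GolayPt) = M24 ⊓ St (none : GolayPt) ⊓ St (pt 22) := by
  refine le_antisymm (fun x hx => ⟨⟨hx.1.1, hx.2⟩, ?_⟩) (le_inf stab2_le_M22d fun x hx => hx.1.2)
  exact fix_of_sdiff (S := {none, pt 22}) (F := {none}) hx.1.2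
    (fun q hq => by rw [Finset.mem_singleton.1 hq]; exact hx.2) (by decide +kernel)

theorem card_M22d : Nat.card M22d = 887040 := by
  have hne : (none : GolayPt) ≠ pt 22 := by decide
  have := card_eq_of_orbit M22d (none : GolayPt) (({none, pt 22} : Finset GolayPt) : Set GolayPt)
    (fun g hg => (apply_mem_of_smul_eq hg.2).2 (by simp))
    (fun y hy => by
      rcases Finset.mem_insert.1 (Finset.mem_coe.1 hy) with rfl | hy
      · exact ⟨1, one_mem _, rfl⟩
      · obtain ⟨k, hk, h1, h2⟩ := M24_trans2 hne hne.symm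
        refine ⟨k, ⟨hk, smul_eq_of_maps (fun p hp => ?_) le_rfl⟩,
          by rw [Finset.mem_singleton.1 hy]; exact h1⟩
        rcases Finset.mem_insert.1 hp with rfl | hp
        · simp [h1]
        · simp [Finset.mem_singleton.1 hp, h2])
  rw [this, Set.ncard_coe_finset, Finset.card_pair hne]
  show 2 * Nat.card ↥(M22d ⊓ St (none : GolayPt)) = _
  rw [M22d_inf, card_stab2 hne]

theorem aut12 (hα : Fintype.card α = 12) {B : Set (Finset α)} (hB : IsSteinerSystem 5 6 B) :
    ∃ g : α ↪ GolayPt, (∀ p, p ∈ ofMask dod1 ↔ ∃ a, g a = p) ∧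
      (∀ b : Finset α, b ∈ B ↔ b.map g ∈ hexadsOn (ofMask dod1)) ∧
      ∃ φ : ↥(M24 ⊓ St (ofMask dod1)) ≃* setSystemAut B,
        ∀ (x : ↥(M24 ⊓ St (ofMask dod1))) (a : α),
        g ((φ x : Equiv.Perm α) a) = (x : Equiv.Perm GolayPt) (g a) := by
  obtain ⟨g, h⟩ := emb12 hα hB
  rw [ofMask_zero, Finset.sdiff_empty] at h
  refine ⟨g, h.range, fun b => by simpa using h.mem b, ?_⟩
  refine h.aut_equiv _ (fun x hx => hx.2) (fun _ _ => Finset.smul_finset_empty _)
    (fun x hx X hX => smul_mem_hexadsOn hx.1 hx.2 hX)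
    (fun x hx h => eq_one_of_fix_dodecad_set hx.1 dod1_mem hx.2 subset_rfl
      (by rw [dod1_mem.2]; norm_num) h) (fun σ h1 hσ => ?_)
  obtain ⟨x, hx, hxd, h⟩ := hexad_aut_induced (smul_eq_of_fix_compl h1)
    fun X hX => hσ X hX (by simp) (by rw [Finset.empty_union]; exact hexad_subset hX)
  exact ⟨x, ⟨hx, hxd⟩, h⟩

theorem none_mem_dod1 : none ∈ ofMask dod1 := by decide +kernel

theorem aut11 (hα : Fintype.card α = 11) {B : Set (Finset α)} (hB : IsSteinerSystem 4 5 B) :
    ∃ g : α ↪ GolayPt, (∀ p, (p ∈ ofMask dod1 ∧ p ≠ none) ↔ ∃ a, g a = p) ∧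
      (∀ b : Finset α, b ∈ B ↔ insert none (b.map g) ∈ hexadsOn (ofMask dod1)) ∧
      ∃ φ : ↥(M24 ⊓ St (ofMask dod1) ⊓ St (none : GolayPt)) ≃* setSystemAut B,
        ∀ (x : ↥(M24 ⊓ St (ofMask dod1) ⊓ St (none : GolayPt))) (a : α),
        g ((φ x : Equiv.Perm α) a) = (x : Equiv.Perm GolayPt) (g a) := by
  obtain ⟨g, h⟩ := emb11 hα hB
  rw [z23_eq] at h
  change Emb _ (ofMask dod1 \ _) _ _ _ at h
  refine ⟨g, fun p => by simpa using h.range p, fun b => by simpa using h.mem b, ?_⟩
  have hZ : ∀ x : Equiv.Perm GolayPt, x none = none → x • ({none} : Finset GolayPt) = {none} :=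
    fun x hx => smul_eq_of_fix fun p hp => by rw [Finset.mem_singleton.1 hp]; exact hx
  have hU : ({none} : Finset GolayPt) ∪ ofMask dod1 \ {none} = ofMask dod1 :=
    Finset.union_sdiff_of_subset (by simpa using none_mem_dod1)
  refine h.aut_equiv _ (fun x hx => by rw [smul_sdiff, hZ x hx.2, mem_St_set.1 hx.1.2])
    (fun x hx => hZ x hx.2) (fun x hx X hX => smul_mem_hexadsOn hx.1.1 hx.1.2 hX)
    (fun x hx h => eq_one_of_fix_dodecad_set hx.1.1 dod1_mem hx.1.2 Finset.sdiff_subset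
      (by decide +kernel) h) (fun σ h1 hσ => ?_)
  have hn : σ none = none := h1 none (by simp)
  have hd : σ • ofMask dod1 = ofMask dod1 :=
    smul_eq_of_fix_compl fun p hp => h1 p fun h => hp (Finset.mem_sdiff.1 h).1
  have hσ' : ∀ X ∈ hexadsOn (ofMask dod1), none ∈ X → σ • X ∈ hexadsOn (ofMask dod1) :=
    fun X hX hn => hσ X hX (by simpa using hn) (by rw [hU]; exact hexad_subset hX)
  obtain ⟨x, hx, hxd, h⟩ := hexad_aut_induced hd fun X hX => by
    by_cases hn : none ∈ X
    · exact hσ' X hX hn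
    · have := hexad_compl dod1_mem (hσ' _ (hexad_compl dod1_mem hX)
        (Finset.mem_sdiff.2 ⟨none_mem_dod1, hn⟩))
      rwa [smul_sdiff, hd, Finset.sdiff_sdiff_eq_self (by
        rw [← hd]; exact (smul_subset_smul_iff _ _ _).2 (hexad_subset hX))] at this
  exact ⟨x, ⟨⟨hx, hxd⟩, (h _ none_mem_dod1).trans hn⟩, fun p hp => h p (Finset.mem_sdiff.1 hp).1⟩

theorem eqns_Design_Aut : True := by
  have := @rigChk.eq_def
  trivial

end H17
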